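/-
Collection of words of root elements whose coefficients are known as short polynomials, or not at all.
-/
import Cfsg.Agent.Lib.Chev.Cent

set_option autoImplicit false

namespace Cfsg.Agent.Chev.InvolCert

open Cfsg.Lie

/-- A short polynomial over the two-element field in numbered variables, or no information. -/
abbrev Poly := Option (List (List ℕ))

/-- A root with a coefficient. -/
abbrev AL := ℕ × Poly

/-- Insert a variable into a sorted monomial. -/
def insV (a : ℕ) : List ℕ → List ℕ
  | [] => [a]
  | b :: m => bif Nat.ble a b then a :: b :: m else b :: insV a m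

/-- The product of two monomials. -/
def mulM (a b : List ℕ) : List ℕ := a.foldr insV b

/-- Equality of monomials. -/
def eqM : List ℕ → List ℕ → Bool
  | [], [] => true
  | a :: m, b :: n => Nat.beq a b && eqM m n
  | _, _ => false

/-- Add a monomial modulo two. -/
def tog (m : List ℕ) : List (List ℕ) → List (List ℕ)
  | [] => [m]
  | x :: l => bif eqM m x then l else x :: tog m l

/-- Forget long polynomials. -/
def cap (l : List (List ℕ)) : Poly :=
  bif Nat.ble l.length 2 && l.all (fun m => Nat.ble m.length 4) then some l else none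

/-- Sum. -/
def padd : Poly → Poly → Poly
  | some p, some q => cap (q.foldl (fun l m => tog m l) p)
  | _, _ => none

/-- Is it zero. -/
def isZ : Poly → Bool
  | some [] => true
  | _ => false

/-- Product. -/
def pmul : Poly → Poly → Poly
  | some [], _ => some []
  | _, some [] => some []
  | some p, some q => cap ((p.flatMap fun a => q.map fun b => mulM a b).foldl (fun l m => tog m l) [])
  | _, _ => none

/-- Power. -/
def ppow (p : Poly) : ℕ → Poly
  | 0 => some [[]]
  | k + 1 => pmul (ppow p k) p

/-- The terms of the commutator of two letters. -/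
def corr (P : Pk) (e f : AL) : List AL :=
  (P.cword f.1 e.1).filterMap fun c =>
    if c.2.1 % 2 == 0 then none else some (c.1, pmul (ppow f.2 c.2.2.1) (ppow e.2 c.2.2.2))

/-- Multiply a word on the left by a letter, collecting in increasing order of roots. -/
def ins (P : Pk) : ℕ → AL → List AL → List AL
  | 0, e, w => e :: w
  | n + 1, e, w =>
    bif isZ e.2 then w else
    match w with
    | [] => [e]
    | f :: w =>
      bif Nat.beq e.1 f.1 then (bif isZ (padd e.2 f.2) then w else (e.1, padd e.2 f.2) :: w)
      else bif Nat.blt e.1 f.1 then e :: f :: w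
      else bif Nat.blt e.1 P.nroots && Nat.blt f.1 P.nroots && !(Nat.beq e.1 (P.ng f.1)) then
        ins P n f (ins P n e ((corr P e f).foldr (ins P n) w))
      else e :: f :: w

/-- The collected form. -/
def nf (P : Pk) (w : List AL) : List AL := w.foldr (ins P 400) []

section Eval

variable {F : Type*} [Field F]

/-- The value of a monomial. -/
def evM (v : ℕ → F) (m : List ℕ) : F := (m.map v).prod

/-- The value of a list of monomials. -/
def evS (v : ℕ → F) (l : List (List ℕ)) : F := (l.map (evM v)).sum

/-- A value allowed by a polynomial. -/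
def EvP (v : ℕ → F) : Poly → F → Prop
  | none, _ => True
  | some l, x => x = evS v l

variable {v : ℕ → F}

theorem evM_insV (a : ℕ) : ∀ m, evM v (insV a m) = v a * evM v m
  | [] => by simp [insV, evM]
  | b :: m => by
    have ih : evM v (insV a m) = v a * evM v m := evM_insV a m
    cases h : Nat.ble a b
    · simp only [insV, h, cond_false]
      rw [show evM v (b :: insV a m) = v b * evM v (insV a m) by simp [evM], ih,
        show evM v (b :: m) = v b * evM v m by simp [evM], mul_left_comm]
    · simp only [insV, h, cond_true]
      simp [evM]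

theorem evM_mulM (a b : List ℕ) : evM v (mulM a b) = evM v a * evM v b := by
  unfold mulM
  induction a with
  | nil => simp [evM]
  | cons x a ih => rw [List.foldr_cons, evM_insV, ih, ← mul_assoc]; simp [evM]

theorem eqM_iff : ∀ {a b : List ℕ}, eqM a b = true → a = b
  | [], [], _ => rfl
  | a :: m, b :: n, h => by
    simp only [eqM, Bool.and_eq_true, nbeq, decide_eq_true_eq] at h
    rw [h.1, eqM_iff h.2]
  | [], _ :: _, h => by simp [eqM] at h
  | _ :: _, [], h => by simp [eqM] at h

variable [CharP F 2]

theorem evS_tog (m : List ℕ) : ∀ l, evS v (tog m l) = evS v l + evM v m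
  | [] => by simp [tog, evS]
  | x :: l => by
    cases h : eqM m x
    · simp only [tog, h, cond_false]
      have := evS_tog m l
      simp only [evS, List.map_cons, List.sum_cons] at this ⊢
      rw [this, add_assoc]
    · simp only [tog, h, cond_true]
      rw [eqM_iff h]
      simp only [evS, List.map_cons, List.sum_cons]
      rw [add_comm (evM v x), add_assoc, CharTwo.add_self_eq_zero, add_zero]

theorem evS_foldl (q : List (List ℕ)) : ∀ p, evS v (q.foldl (fun l m => tog m l) p) = evS v p + evS v q := by
  induction q with
  | nil => simp [evS]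
  | cons m q ih =>
    intro p
    rw [List.foldl_cons, ih, evS_tog, add_assoc]
    simp [evS]

theorem evP_cap {l : List (List ℕ)} {x : F} (h : x = evS v l) : EvP v (cap l) x := by
  unfold cap
  cases Nat.ble l.length 2 && l.all fun m => Nat.ble m.length 4 <;> simp [EvP, h]

theorem evP_padd : ∀ {p q : Poly} {x y : F}, EvP v p x → EvP v q y → EvP v (padd p q) (x + y)
  | some p, some q, x, y, hx, hy => evP_cap (by rw [evS_foldl, hx, hy])
  | none, _, _, _, _, _ => trivial
  | some _, none, _, _, _, _ => trivial

theorem evP_zero {p : Poly} {x : F} (h : isZ p = true) (hx : EvP v p x) : x = 0 := by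
  match p, h with
  | some [], _ => simpa [EvP, evS] using hx

theorem evS_flat (p q : List (List ℕ)) :
    evS v (p.flatMap fun a => q.map fun b => mulM a b) = evS v p * evS v q := by
  induction p with
  | nil => simp [evS]
  | cons a p ih =>
    simp only [evS, List.flatMap_cons, List.map_append, List.sum_append, List.map_cons, List.sum_cons] at ih ⊢
    rw [ih, add_mul]
    congr 1
    rw [List.map_map, ← List.sum_map_mul_left]
    exact congrArg List.sum (List.map_congr_left fun b _ => evM_mulM a b)

theorem evP_pmul {p q : Poly} {x y : F} (hx : EvP v p x) (hy : EvP v q y) : EvP v (pmul p q) (x * y) := by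
  unfold pmul
  split
  · rw [evP_zero (p := some []) rfl hx, zero_mul]; simp [EvP, evS]
  · rw [evP_zero (p := some []) rfl hy, mul_zero]; simp [EvP, evS]
  · rename_i p q _ _
    refine evP_cap ?_
    rw [evS_foldl, evS_flat, show x = evS v p from hx, show y = evS v q from hy]
    simp [evS]
  · trivial

theorem evP_ppow {p : Poly} {x : F} (hx : EvP v p x) : ∀ k, EvP v (ppow p k) (x ^ k)
  | 0 => by simp [ppow, EvP, evS, evM]
  | k + 1 => by rw [pow_succ]; exact evP_pmul (evP_ppow hx k) hx

variable {D : ChevalleyDatum} {P : Pk} (h : Ok D P)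

/-- The elements allowed by a word. -/
def Ev (v : ℕ → F) : List AL → GL D.Idx F → Prop
  | [], g => g = 1
  | e :: w, g => ∃ x g', EvP v e.2 x ∧ Ev v w g' ∧ g = h.xG e.1 x * g'

theorem ev_cons {e : AL} {w : List AL} {x : F} {g : GL D.Idx F} (hx : EvP v e.2 x) (hg : Ev h v w g) :
    Ev h v (e :: w) (h.xG e.1 x * g) :=
  ⟨x, g, hx, hg, rfl⟩

theorem int_cast_two (z : ℤ) : (z : F) = if z % 2 = 0 then 0 else 1 := by
  obtain ⟨k, rfl | rfl⟩ := Int.even_or_odd' z
  · rw [if_pos (by omega), Int.cast_mul, Int.cast_ofNat, CharTwo.two_eq_zero, zero_mul]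
  · rw [if_neg (by omega), Int.cast_add, Int.cast_mul, Int.cast_ofNat, CharTwo.two_eq_zero, zero_mul, zero_add,
      Int.cast_one]

variable (hC : P.ckComm = true)
include hC

theorem ev_ins (n : ℕ) : ∀ (e : AL) (w : List AL) (x : F) (g : GL D.Idx F), EvP v e.2 x → Ev h v w g →
    Ev h v (ins P n e w) (h.xG e.1 x * g) := by
  induction n with
  | zero => intro e w x g hx hg; exact ev_cons h hx hg
  | succ n ih =>
    intro e w x g hx hg
    unfold ins
    cases hz : isZ e.2
    swap
    · simp only [cond_true]
      rw [evP_zero hz hx, h.xG_zero, one_mul]; exact hg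
    simp only [cond_false]
    cases w with
    | nil => exact ev_cons h hx hg
    | cons f w =>
      obtain ⟨y, g', hy, hg', rfl⟩ := hg
      simp only
      cases h1 : Nat.beq e.1 f.1
      swap
      · simp only [cond_true]
        simp only [nbeq, decide_eq_true_eq] at h1
        rw [← mul_assoc, ← h1, h.xG_add]
        cases h2 : isZ (padd e.2 f.2)
        · exact ev_cons h (e := (e.1, padd e.2 f.2)) (evP_padd hx hy) hg'
        · rw [evP_zero h2 (evP_padd hx hy), h.xG_zero, one_mul]; exact hg'
      simp only [cond_false]
      cases h2 : Nat.blt e.1 f.1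
      swap
      · exact ev_cons h hx (ev_cons h hy hg')
      simp only [cond_false]
      cases h3 : Nat.blt e.1 P.nroots && Nat.blt f.1 P.nroots && !(Nat.beq e.1 (P.ng f.1))
      · exact ev_cons h hx (ev_cons h hy hg')
      simp only [cond_true]
      simp only [Bool.and_eq_true, Nat.blt_eq, Bool.not_eq_true', nbeq, decide_eq_false_iff_not] at h3
      simp only [nbeq, decide_eq_false_iff_not] at h1
      rw [← mul_assoc, h.comm_xG hC h3.1.2 h3.1.1 h1 h3.2 y x, mul_assoc (h.xG f.1 y), mul_assoc (h.xG f.1 y)]
      refine ih f _ y _ hy ?_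
      rw [mul_assoc (h.xG e.1 x)]
      refine ih e _ x _ hx ?_
      rw [corr]
      generalize P.cword f.1 e.1 = L
      induction L with
      | nil => simpa using hg'
      | cons c L ihL =>
        rw [List.map_cons, List.prod_cons, mul_assoc, int_cast_two (F := F)]
        by_cases hc : c.2.1 % 2 = 0
        · rw [List.filterMap_cons_none (by simp [hc]), if_pos hc, zero_mul, zero_mul, h.xG_zero, one_mul]
          exact ihL
        · rw [List.filterMap_cons_some (b := (c.1, pmul (ppow f.2 c.2.2.1) (ppow e.2 c.2.2.2))) (by simp [hc]),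
            if_neg hc, one_mul, List.foldr_cons]
          exact ih (c.1, _) _ _ _ (evP_pmul (evP_ppow hy _) (evP_ppow hx _)) ihL

theorem ev_nf : ∀ {w : List AL} {g : GL D.Idx F}, Ev h v w g → Ev h v (nf P w) g
  | [], _, hg => hg
  | e :: w, g, hg => by
    obtain ⟨x, g', hx, hg', rfl⟩ := hg
    exact ev_ins h hC 400 e _ x g' hx (ev_nf hg')

end Eval

end Cfsg.Agent.Chev.InvolCert
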