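/-
A checker for certificates reducing the involutions of the unipotent group.
-/
import Cfsg.Agent.Lib.Chev.InvolCert.Abs
import Cfsg.Agent.Lib.Chev.Normal

set_option autoImplicit false

namespace Cfsg.Agent.Chev.InvolCert

open Cfsg.Lie

/-- The steps. -/
inductive Rule
  | one
  | leaf (k : ℕ)
  | contra (r : ℕ)
  | sq (r v ch : ℕ)
  | kill (g c ch : ℕ)
  | mv (p : List ℕ) (ch : ℕ)
  | br (c c0 c1 : ℕ)

/-- A state (support, nonzero part) with its step. -/
abbrev Node := ℕ × ℕ × Rule

/-- The variable of the conjugating element. -/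
def lam : ℕ := 255

/-- The node with a given number. -/
def getN (T : List (List Node)) (i : ℕ) : Node := (T.getD (i / 64) []).getD (i % 64) (0, 0, .one)

/-- The roots in a mask. -/
def bits (P : Pk) (m : ℕ) : List ℕ := P.allRoots.filter fun r => Nat.testBit m r

/-- Equality of lists of numbers. -/
def eqLs : List ℕ → List ℕ → Bool
  | [], [] => true
  | a :: m, b :: n => Nat.beq a b && eqLs m n
  | _, _ => false

/-- Letters with their own variables. -/
def varW (l : List ℕ) : List AL := l.map fun r => (r, some [[r]])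

/-- The coefficient of a root in a word. -/
def coefW (w : List AL) (c : ℕ) : Poly := ((w.find? fun e => Nat.beq e.1 c).map Prod.snd).getD none

/-- A coefficient known to be nonzero. -/
def nzP (okv : ℕ → Bool) : Poly → Bool
  | some [m] => m.all okv
  | _ => false

/-- The roots of `N'` have nonzero coefficients. -/
def ckNz (okv : ℕ → Bool) (out : List AL) (N' : List ℕ) : Bool := N'.all fun r => nzP okv (coefW out r)

/-- A member of `N`. -/
def inN (N : ℕ) (r : ℕ) : Bool := Nat.testBit N r

/-- Apply a word of reflections. -/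
def mvRoot (P : Pk) (p : List ℕ) (r : ℕ) : ℕ := p.foldl (fun s i => P.w i s) r

/-- The word of a square. -/
def sqW (P : Pk) (L : ℕ) : List AL := nf P (varW (bits P L) ++ varW (bits P L))

/-- Strictly increasing positive roots. -/
def ckSorted (P : Pk) : List ℕ → Bool
  | [] => true
  | [a] => P.isPos a
  | a :: b :: l => P.isPos a && Nat.blt a b && ckSorted P (b :: l)

/-- The check of one node. -/
def ckNodeW (P : Pk) (col : List AL → List AL) (leaves : List (List ℕ)) (T : List (List Node)) (i : ℕ) : Bool :=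
  let L := (getN T i).1
  let N := (getN T i).2.1
  (bits P N).all (inN L) &&
  match (getN T i).2.2 with
  | .one => Nat.beq (bits P L).length 0
  | .leaf k => eqLs (bits P L) (leaves.getD k []) && eqLs (bits P N) (leaves.getD k []) &&
      Nat.blt k leaves.length
  | .contra r => ckSorted P ((col (varW (bits P L) ++ varW (bits P L))).map Prod.fst) && (col (varW (bits P L) ++ varW (bits P L))).any (fun e => Nat.beq e.1 r) &&
      nzP (fun v => inN N v && Nat.blt v P.nroots) (coefW (col (varW (bits P L) ++ varW (bits P L))) r)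
  | .sq r v ch => Nat.blt ch i && inN L v && ckSorted P ((col (varW (bits P L) ++ varW (bits P L))).map Prod.fst) &&
      (col (varW (bits P L) ++ varW (bits P L))).any (fun e => Nat.beq e.1 r) &&
      nzP (fun x => Nat.beq x v || (inN N x && Nat.blt x P.nroots)) (coefW (col (varW (bits P L) ++ varW (bits P L))) r) &&
      eqLs (bits P (getN T ch).1) ((bits P L).filter fun x => !(Nat.beq x v)) &&
      (bits P (getN T ch).2.1).all (inN N)
  | .br c c0 c1 => Nat.blt c0 i && Nat.blt c1 i && Nat.blt c P.nroots &&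
      eqLs (bits P (getN T c0).1) ((bits P L).filter fun x => !(Nat.beq x c)) &&
      (bits P (getN T c0).2.1).all (inN N) &&
      eqLs (bits P (getN T c1).1) (bits P L) &&
      (bits P (getN T c1).2.1).all (fun x => inN N x || Nat.beq x c)
  | .kill g c ch =>
      let out := col ([(g, some [[lam]])] ++ varW (bits P L) ++ [(g, some [[lam]])])
      Nat.blt ch i && Nat.blt g P.nroots && Nat.blt c P.nroots && out.any (fun e => Nat.beq e.1 c) &&
      (match coefW out c with
        | some [m₁, m₂] =>
          let m := bif eqM m₁ [c] then m₂ else m₁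
          let k := m.countP (Nat.beq lam)
          (eqM m₁ [c] || eqM m₂ [c]) && (Nat.beq k 1 || Nat.beq k 2 || Nat.beq k 4) &&
            m.all (fun x => Nat.beq x lam || (inN N x && Nat.blt x P.nroots))
        | _ => false) &&
      eqLs (bits P (getN T ch).1) ((out.map Prod.fst).filter fun x => !(Nat.beq x c)) &&
      ckSorted P (out.map Prod.fst) &&
      ckNz (fun x => (Nat.beq x lam && inN N c) || (inN N x && Nat.blt x P.nroots)) out (bits P (getN T ch).2.1)
  | .mv p ch =>
      let out := col ((bits P L).map fun r => (mvRoot P p r, some [[r]]))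
      Nat.blt ch i && p.all (fun j => Nat.blt j P.rank) &&
      eqLs (bits P (getN T ch).1) (out.map Prod.fst) && ckSorted P (out.map Prod.fst) &&
      ckNz (fun x => inN N x && Nat.blt x P.nroots) out (bits P (getN T ch).2.1)

/-- The check of one node. -/
def ckNode (P : Pk) (leaves : List (List ℕ)) (T : List (List Node)) (i : ℕ) : Bool := ckNodeW P (nf P) leaves T i

/-- The conjugating root elements of a list of reflections are allowed. -/
def ckRefl (P : Pk) (okR : ℕ → Bool) (p : List ℕ) : Bool :=
  p.all fun j => okR (P.sim j) && okR (P.ng (P.sim j))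

/-- The conjugating elements of a node are allowed. -/
def ckUse (P : Pk) (okR : ℕ → Bool) (T : List (List Node)) (i : ℕ) : Bool :=
  match (getN T i).2.2 with
  | .kill g _ _ => okR g
  | .mv p _ => ckRefl P okR p
  | _ => true

theorem eqLs_iff : ∀ {a b : List ℕ}, eqLs a b = true → a = b
  | [], [], _ => rfl
  | a :: m, b :: n, h => by
    simp only [eqLs, Bool.and_eq_true, nbeq, decide_eq_true_eq] at h
    rw [h.1, eqLs_iff h.2]
  | [], _ :: _, h => by simp [eqLs] at h
  | _ :: _, [], h => by simp [eqLs] at h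

theorem mem_bits {P : Pk} {m r : ℕ} : r ∈ bits P m ↔ r < P.nroots ∧ inN m r = true := by
  simp [bits, inN, Pk.mem_allRoots]

theorem nodup_bits (P : Pk) (m : ℕ) : (bits P m).Nodup := (List.nodup_range).filter _

theorem sorted_of_ck {P : Pk} : ∀ {l : List ℕ}, ckSorted P l = true → l.Pairwise (· < ·) ∧ ∀ r ∈ l, P.isPos r = true
  | [], _ => ⟨List.Pairwise.nil, by simp⟩
  | [a], h => ⟨List.pairwise_singleton _ _, by simpa [ckSorted] using h⟩
  | a :: b :: l, h => by
    simp only [ckSorted, Bool.and_eq_true, Nat.blt_eq] at h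
    obtain ⟨h1, h2⟩ := sorted_of_ck h.2
    refine ⟨List.pairwise_cons.2 ⟨fun x hx => ?_, h1⟩, fun r hr => ?_⟩
    · rcases List.mem_cons.1 hx with rfl | hx
      · exact h.1.2
      · exact h.1.2.trans ((List.pairwise_cons.1 h1).1 x hx)
    · rcases List.mem_cons.1 hr with rfl | hr
      · exact h.1.1
      · exact h2 r hr

variable {D : ChevalleyDatum} {P : Pk} (h : Ok D P) {F : Type*} [Field F]

/-- The product of root elements over a list. -/
noncomputable def prd (t : ℕ → F) (l : List ℕ) : GL D.Idx F := (l.map fun r => h.xG r (t r)).prod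

variable [CharP F 2]

theorem prd_drop (t : ℕ → F) {c : ℕ} (hc : t c = 0) :
    ∀ l, prd h t (l.filter fun x => !(Nat.beq x c)) = prd h t l
  | [] => rfl
  | a :: l => by
    have ih := prd_drop t hc l
    by_cases e : a = c
    · subst e
      rw [List.filter_cons_of_neg (by simp [nbeq]), ih]
      simp [prd, hc, h.xG_zero]
    · rw [List.filter_cons_of_pos (by simp [nbeq, e])]
      simp only [prd, List.map_cons, List.prod_cons] at ih ⊢
      rw [ih]

theorem ev_varW (t v : ℕ → F) : ∀ l, (∀ r ∈ l, v r = t r) → Ev h v (varW l) (prd h t l)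
  | [], _ => rfl
  | a :: l, hv => ⟨t a, prd h t l, by simp [EvP, evS, evM, hv a List.mem_cons_self],
      ev_varW t v l fun r hr => hv r (List.mem_cons_of_mem _ hr), by simp [prd]⟩

theorem ev_append {v : ℕ → F} : ∀ {a b : List AL} {g g' : GL D.Idx F}, Ev h v a g → Ev h v b g' →
    Ev h v (a ++ b) (g * g')
  | [], _, _, _, ha, hb => by simp only [show _ = (1 : GL D.Idx F) from ha, one_mul, List.nil_append]; exact hb
  | e :: a, _, _, _, ha, hb => by
    obtain ⟨x, g1, hx, ha, rfl⟩ := ha
    rw [mul_assoc]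
    exact ev_cons h hx (ev_append ha hb)

theorem read {v : ℕ → F} : ∀ {w : List AL} {g : GL D.Idx F}, Ev h v w g → (w.map Prod.fst).Nodup →
    ∃ t : ℕ → F, g = prd h t (w.map Prod.fst) ∧ ∀ e ∈ w, EvP v e.2 (t e.1)
  | [], g, hg, _ => ⟨fun _ => 0, hg, by simp⟩
  | e :: w, g, hg, hnd => by
    obtain ⟨x, g1, hx, hg1, rfl⟩ := hg
    obtain ⟨t, ht, hv⟩ := read hg1 (List.nodup_cons.1 hnd).2
    have hne : ∀ f ∈ w, f.1 ≠ e.1 := fun f hf ee =>
      (List.nodup_cons.1 hnd).1 (ee ▸ List.mem_map_of_mem hf)
    refine ⟨Function.update t e.1 x, ?_, fun f hf => ?_⟩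
    · rw [ht]
      simp only [prd, List.map_cons, List.prod_cons, Function.update_self]
      congr 2
      refine List.map_congr_left fun r hr => ?_
      obtain ⟨f, hf, rfl⟩ := List.mem_map.1 hr
      rw [Function.update_of_ne (hne f hf)]
    · rcases List.mem_cons.1 hf with rfl | hf
      · rw [Function.update_self]; exact hx
      · rw [Function.update_of_ne (hne f hf)]; exact hv f hf

theorem coefW_mem {w : List AL} {c : ℕ} (hc : w.any (fun e => Nat.beq e.1 c) = true) : (c, coefW w c) ∈ w := by
  rw [List.any_eq_true] at hc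
  obtain ⟨e, he, hec⟩ := hc
  cases hf : w.find? fun e => Nat.beq e.1 c with
  | none => exact absurd hec (by simpa using (List.find?_eq_none.1 hf) e he)
  | some f =>
    have h1 := List.find?_some hf
    simp only [nbeq, decide_eq_true_eq] at h1
    simp only [coefW, hf, Option.map_some, Option.getD_some]
    rw [← h1]
    exact List.mem_of_find?_eq_some hf

theorem nz_ne {v : ℕ → F} {okv : ℕ → Bool} {p : Poly} {x : F} (hp : nzP okv p = true)
    (hv : ∀ a, okv a = true → v a ≠ 0) (hx : EvP v p x) : x ≠ 0 := by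
  match p, hp, hx with
  | some [m], hp, hx =>
    simp only [nzP, List.all_eq_true] at hp
    simp only [EvP, evS, List.map_cons, List.map_nil, List.sum_cons, List.sum_nil, add_zero] at hx
    rw [hx, evM]
    exact List.prod_ne_zero fun h0 => by
      obtain ⟨a, ha, e⟩ := List.mem_map.1 h0
      exact hv a (hp a ha) e

theorem ckNz_ne {v : ℕ → F} {okv : ℕ → Bool} {out : List AL} {N' : List ℕ} (hck : ckNz okv out N' = true)
    (hv : ∀ a, okv a = true → v a ≠ 0) {t : ℕ → F} (ht : ∀ e ∈ out, EvP v e.2 (t e.1))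
    {r : ℕ} (hr : r ∈ N') : t r ≠ 0 := by
  have h1 := List.all_eq_true.1 hck r hr
  have h2 : out.any (fun e => Nat.beq e.1 r) = true := by
    by_contra hn
    have hf : (out.find? fun e => Nat.beq e.1 r) = none :=
      List.find?_eq_none.2 fun e he hh => hn (List.any_eq_true.2 ⟨e, he, hh⟩)
    rw [coefW, hf] at h1
    simp [nzP] at h1
  exact nz_ne h1 hv (ht _ (coefW_mem h2))

theorem exists_root [Finite F] {k : ℕ} (hk : k = 1 ∨ k = 2 ∨ k = 4) (z : F) : ∃ x : F, x ^ k = z := by
  haveI : PerfectRing F 2 := PerfectRing.ofFiniteOfIsReduced (R := F) 2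
  have hsq : ∀ z : F, ∃ x : F, x ^ 2 = z := fun z => by
    obtain ⟨x, hx⟩ := (PerfectRing.bijective_frobenius (R := F) (p := 2)).2 z
    exact ⟨x, hx⟩
  rcases hk with rfl | rfl | rfl
  · exact ⟨z, pow_one z⟩
  · exact hsq z
  · obtain ⟨y, rfl⟩ := hsq z
    obtain ⟨x, rfl⟩ := hsq y
    exact ⟨x, by rw [← pow_mul]⟩

theorem evM_split (v : ℕ → F) (a : ℕ) : ∀ m : List ℕ,
    evM v m = v a ^ m.countP (Nat.beq a) * evM v (m.filter fun x => !(Nat.beq a x))
  | [] => by simp [evM]
  | b :: m => by
    have ih := evM_split v a m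
    have hb : evM v (b :: m) = v b * evM v m := by simp [evM]
    by_cases e : a = b
    · subst e
      rw [List.countP_cons_of_pos (by simp [nbeq]), List.filter_cons_of_neg (by simp [nbeq]), hb, ih, pow_succ]
      ring
    · rw [List.countP_cons_of_neg (by simp [nbeq, e]), List.filter_cons_of_pos (by simp [nbeq, e]), hb, ih]
      simp only [evM, List.map_cons, List.prod_cons]
      ring

theorem inv_x (r : ℕ) (x : F) : (h.xG r x)⁻¹ = h.xG r x :=
  inv_eq_of_mul_eq_one_right (by rw [h.xG_add, CharTwo.add_self_eq_zero, h.xG_zero])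

theorem conj_mv {K : Subgroup (GL D.Idx F)} (t : ℕ → F) (l : List ℕ) (hl : ∀ r ∈ l, r < P.nroots) (p : List ℕ)
    (hp : ∀ j ∈ p, j < P.rank) (hK : ∀ j ∈ p, h.nG j ∈ K) :
    ∃ x ∈ K, x * prd h t l * x⁻¹ = ((l.map fun r => h.xG (mvRoot P p r) (t r)).prod) := by
  induction p using List.reverseRecOn with
  | nil => exact ⟨1, one_mem _, by simp [prd, mvRoot]⟩
  | append_singleton p j ih =>
    obtain ⟨x, hx, e⟩ := ih (fun i hi => hp i (List.mem_append_left _ hi))
      fun i hi => hK i (List.mem_append_left _ hi)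
    have hj := hp j (List.mem_append_right _ (List.mem_singleton_self j))
    refine ⟨h.nG j * x, mul_mem (hK j (List.mem_append_right _ (List.mem_singleton_self j))) hx, ?_⟩
    rw [show h.nG j * x * prd h t l * (h.nG j * x)⁻¹ = h.nG j * (x * prd h t l * x⁻¹) * (h.nG j)⁻¹ by group, e,
      ← MulAut.conj_apply, ← MulEquiv.coe_toMonoidHom, map_list_prod, List.map_map]
    refine congrArg List.prod (List.map_congr_left fun r hr => ?_)
    have hlt : mvRoot P p r < P.nroots := by
      have hp' : ∀ i ∈ p, i < P.rank := fun i hi => hp i (List.mem_append_left _ hi)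
      clear ih e hK
      induction p using List.reverseRecOn with
      | nil => exact hl r hr
      | append_singleton q i ihq =>
        rw [mvRoot, List.foldl_append]
        exact h.w_lt (hp' i (List.mem_append_right _ (List.mem_singleton_self i)))
          (ihq (fun a ha => by
            rcases List.mem_append.1 ha with ha | ha
            · exact hp a (List.mem_append_left _ (List.mem_append_left _ ha))
            · exact hp a (List.mem_append_right _ ha)) fun a ha => hp' a (List.mem_append_left _ ha))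
    rw [Function.comp_apply, MulEquiv.coe_toMonoidHom, MulAut.conj_apply, h.nG_xG hj hlt]
    simp only [mvRoot, List.foldl_append, List.foldl_cons, List.foldl_nil]
    rcases h.eta_cases j (p.foldl (fun s i => P.w i s) r) with e' | e' <;>
      simp [e', CharTwo.neg_eq]

/-- What a certificate proves about a node. -/
def Good (C : GL D.Idx F → Prop) (L N : ℕ) : Prop :=
  ∀ t : ℕ → F, (∀ r ∈ bits P N, t r ≠ 0) → prd h t (bits P L) * prd h t (bits P L) = 1 → C (prd h t (bits P L))

theorem nG_mem_okR {okR : ℕ → Bool} {j : ℕ} (hs : okR (P.sim j) = true) (hn : okR (P.ng (P.sim j)) = true) :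
    h.nG j ∈ h.genR (F := F) (fun r => okR r = true) :=
  mul_mem (mul_mem (h.xG_mem_genR hs _) (h.xG_mem_genR hn _)) (h.xG_mem_genR hs _)

variable [Finite F] (hC : P.ckComm = true) {C : GL D.Idx F → Prop} {okR : ℕ → Bool}
  (hconj : ∀ x ∈ h.genR (F := F) (fun r => okR r = true), ∀ g, C (x * g * x⁻¹) → C g) (hone : C 1)
  {leaves : List (List ℕ)}
  (hleaf : ∀ k < leaves.length, ∀ t : ℕ → F, (∀ r ∈ leaves.getD k [], t r ≠ 0) →
    prd h t (leaves.getD k []) * prd h t (leaves.getD k []) = 1 → C (prd h t (leaves.getD k [])))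
include hC hconj hone hleaf

theorem soundK (T : List (List Node)) (n : ℕ) (hck : ∀ i < n, ckNode P leaves T i = true)
    (huse : ∀ i < n, ckUse P okR T i = true) :
    ∀ i < n, Good h C (getN T i).1 (getN T i).2.1 := by
  intro i
  induction i using Nat.strong_induction_on with
  | _ i ih =>
  intro hi t htN hsq
  have hc := hck i hi
  have huz := huse i hi
  simp only [ckUse] at huz
  simp only [ckNode, ckNodeW, Bool.and_eq_true] at hc
  obtain ⟨-, hc⟩ := hc
  set L := (getN T i).1
  set N := (getN T i).2.1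
  have hN : ∀ x, inN N x = true → x < P.nroots → t x ≠ 0 := fun x h1 h2 => htN x (mem_bits.2 ⟨h2, h1⟩)
  have hsqw : ckSorted P ((sqW P L).map Prod.fst) = true → ∀ e ∈ sqW P L, EvP t e.2 (0 : F) := by
    intro hs
    obtain ⟨h1, h2⟩ := sorted_of_ck hs
    have hev : Ev h t (sqW P L) (prd h t (bits P L) * prd h t (bits P L)) :=
      ev_nf h hC (ev_append h (ev_varW h t t _ fun _ _ => rfl) (ev_varW h t t _ fun _ _ => rfl))
    obtain ⟨u, hu, hv⟩ := read h hev (h1.imp fun hab => Nat.ne_of_lt hab)
    have h0 : ∀ r ∈ (sqW P L).map Prod.fst, u r = 0 := by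
      refine h.prod_unique _ h1 h2 u (fun _ => 0) ?_
      rw [show (List.map (fun r => h.xG r (u r)) ((sqW P L).map Prod.fst)).prod = 1 from (hsq ▸ hu).symm]
      refine (List.prod_eq_one fun x hx => ?_).symm
      obtain ⟨r, -, rfl⟩ := List.mem_map.1 hx
      exact h.xG_zero r
    intro e he
    have := hv e he
    rwa [h0 _ (List.mem_map_of_mem he)] at this
  split at hc
  · rename_i hr
    simp only [nbeq, decide_eq_true_eq, List.length_eq_zero_iff] at hc
    rw [hc]
    exact hone
  · rename_i k hr
    simp only [Bool.and_eq_true, Nat.blt_eq] at hc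
    obtain ⟨⟨h1, h2⟩, h3⟩ := hc
    have h1' := eqLs_iff h1
    have h2' := eqLs_iff h2
    rw [h1'] at hsq ⊢
    exact hleaf k h3 t (fun r hr => htN r (h2'.symm ▸ hr)) hsq
  · rename_i r hr
    simp only [Bool.and_eq_true] at hc
    obtain ⟨⟨h1, h2⟩, h3⟩ := hc
    refine absurd rfl (nz_ne h3 (fun a ha => ?_) (hsqw h1 _ (coefW_mem h2)))
    simp only [Bool.and_eq_true, Nat.blt_eq] at ha
    exact hN a ha.1 ha.2
  · rename_i r v ch hr
    simp only [Bool.and_eq_true, Nat.blt_eq] at hc
    obtain ⟨⟨⟨⟨⟨⟨hch, -⟩, h1⟩, h2⟩, h3⟩, h4⟩, h5⟩ := hc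
    have hv : t v = 0 := by
      by_contra hv
      refine nz_ne h3 (fun a ha => ?_) (hsqw h1 _ (coefW_mem h2)) rfl
      simp only [Bool.or_eq_true, Bool.and_eq_true, Nat.blt_eq, nbeq, decide_eq_true_eq] at ha
      rcases ha with rfl | ha
      · exact hv
      · exact hN a ha.1 ha.2
    have e := prd_drop h t hv (bits P L)
    rw [← eqLs_iff h4] at e
    rw [← e] at hsq ⊢
    exact ih ch hch (hch.trans hi) t
      (fun x hx => hN x (List.all_eq_true.1 h5 x hx) (mem_bits.1 hx).1) hsq
  · rename_i c c0 c1 hr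
    simp only [Bool.and_eq_true, Nat.blt_eq] at hc
    obtain ⟨⟨⟨⟨⟨⟨h0, h1⟩, hcr⟩, hL0⟩, hN0⟩, hL1⟩, hN1⟩ := hc
    by_cases hz : t c = 0
    · have e := prd_drop h t hz (bits P L)
      rw [← eqLs_iff hL0] at e
      rw [← e] at hsq ⊢
      exact ih c0 h0 (h0.trans hi) t (fun x hx => hN x (List.all_eq_true.1 hN0 x hx) (mem_bits.1 hx).1) hsq
    · rw [← eqLs_iff hL1] at hsq ⊢
      refine ih c1 h1 (h1.trans hi) t (fun x hx => ?_) hsq
      have := List.all_eq_true.1 hN1 x hx
      simp only [Bool.or_eq_true, nbeq, decide_eq_true_eq] at this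
      rcases this with h' | h'
      · exact hN x h' (mem_bits.1 hx).1
      · exact h' ▸ hz
  · rename_i g c ch hr
    simp only [Bool.and_eq_true, Nat.blt_eq] at hc
    obtain ⟨⟨⟨⟨⟨⟨⟨hch, hg⟩, hcc⟩, hmem⟩, hco⟩, hL'⟩, hs⟩, hnz⟩ := hc
    set out := nf P ([(g, some [[lam]])] ++ varW (bits P L) ++ [(g, some [[lam]])]) with hout
    clear_value out
    obtain ⟨m₁, m₂, hcoef⟩ : ∃ m₁ m₂, coefW out c = some [m₁, m₂] := by
      split at hco
      · exact ⟨_, _, by assumption⟩
      · exact Bool.noConfusion hco
    rw [hcoef] at hco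
    simp only [Bool.and_eq_true, Bool.or_eq_true] at hco
    set m := bif eqM m₁ [c] then m₂ else m₁ with hm
    obtain ⟨⟨hsel, hk⟩, hall⟩ := hco
    have hev' : ∀ v' : ℕ → F, evS v' [m₁, m₂] = v' c + evM v' m := by
      intro v'
      have hc1 : evM v' [c] = v' c := by simp [evM]
      simp only [evS, List.map_cons, List.map_nil, List.sum_cons, List.sum_nil, add_zero, hm]
      cases h' : eqM m₁ [c]
      · rw [h'] at hsel
        simp only [Bool.false_eq_true, false_or] at hsel
        rw [cond_false, eqM_iff hsel, hc1, add_comm]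
      · rw [cond_true, eqM_iff h', hc1]
    set k := m.countP (Nat.beq lam) with hkdef
    set M := evM t (m.filter fun x => !(Nat.beq lam x)) with hMdef
    have hM : M ≠ 0 := by
      refine List.prod_ne_zero fun h0 => ?_
      obtain ⟨a, ha, e⟩ := List.mem_map.1 h0
      obtain ⟨ha1, ha2⟩ := List.mem_filter.1 ha
      have := List.all_eq_true.1 hall a ha1
      simp only [Bool.or_eq_true, Bool.and_eq_true, Nat.blt_eq, nbeq, decide_eq_true_eq, Bool.not_eq_true',
        decide_eq_false_iff_not] at this ha2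
      rcases this with rfl | this
      · exact ha2 rfl
      · exact hN a this.1 this.2 e
    obtain ⟨l, hl⟩ := exists_root (F := F) (k := k)
      (by simpa [nbeq, or_assoc] using hk) (t c * M⁻¹)
    set v : ℕ → F := Function.update t lam l with hv
    have hvl : v lam = l := Function.update_self ..
    have hlam : ∀ x, x < P.nroots → x ≠ lam := fun x hx e => by
      have h1 : P.nroots < 256 := h.n_lt
      have h3 : x = 255 := e
      omega
    have hvt : ∀ x, x < P.nroots → v x = t x := fun x hx => Function.update_of_ne (hlam x hx) _ _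
    have hx0 : EvP v (some [[lam]]) l := by simp [EvP, evS, evM, hvl]
    have hone1 : Ev h v [(g, some [[lam]])] (h.xG g l) := ⟨l, 1, hx0, rfl, (mul_one _).symm⟩
    have hev : Ev h v out (h.xG g l * prd h t (bits P L) * h.xG g l) :=
      hout ▸ ev_nf h hC (ev_append h (ev_append h hone1
        (ev_varW h t v _ fun r hr => hvt r (mem_bits.1 hr).1)) hone1)
    obtain ⟨u, hu, hue⟩ := read h hev ((sorted_of_ck hs).1.imp fun hab => Nat.ne_of_lt hab)
    have huc : u c = 0 := by
      have h1 := hue _ (coefW_mem hmem)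
      rw [hcoef] at h1
      have h2 : u c = evS v [m₁, m₂] := h1
      have hMv : evM v (m.filter fun x => !(Nat.beq lam x)) = M := by
        refine congrArg List.prod (List.map_congr_left fun a ha => ?_)
        have := (List.mem_filter.1 ha).2
        simp only [Bool.not_eq_true', nbeq, decide_eq_false_iff_not] at this
        exact Function.update_of_ne (Ne.symm this) _ _
      rw [h2, hev' v, evM_split v lam m, hvl, ← hkdef, hl, hMv, hvt c hcc, inv_mul_cancel_right₀ hM,
        CharTwo.add_self_eq_zero]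
    rw [hr] at huz
    have hX : h.xG g l ∈ h.genR (F := F) (fun r => okR r = true) := h.xG_mem_genR huz _
    refine hconj _ hX _ ?_
    rw [inv_x h, hu, ← prd_drop h u huc, ← eqLs_iff hL']
    refine ih ch hch (hch.trans hi) u (fun x hx => ckNz_ne hnz (fun a ha => ?_) hue hx) ?_
    · simp only [Bool.or_eq_true, Bool.and_eq_true, Nat.blt_eq, nbeq, decide_eq_true_eq] at ha
      rcases ha with ⟨rfl, ha⟩ | ha
      · rw [hvl]
        intro h0
        rw [h0, zero_pow (by rcases hk with hk | hk <;> simp [nbeq] at hk <;> omega)] at hl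
        exact hN c ha hcc ((mul_eq_zero.1 hl.symm).resolve_right (inv_ne_zero hM))
      · rw [hvt a ha.2]; exact hN a ha.1 ha.2
    · rw [eqLs_iff hL', prd_drop h u huc, ← hu]
      have hi1 : h.xG g l * h.xG g l = 1 := by rw [h.xG_add, CharTwo.add_self_eq_zero, h.xG_zero]
      calc h.xG g l * prd h t (bits P L) * h.xG g l * (h.xG g l * prd h t (bits P L) * h.xG g l)
          = h.xG g l * prd h t (bits P L) * (h.xG g l * h.xG g l) * prd h t (bits P L) * h.xG g l := by group
        _ = h.xG g l * (prd h t (bits P L) * prd h t (bits P L)) * h.xG g l := by rw [hi1]; group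
        _ = 1 := by rw [hsq, mul_one, hi1]
  · rename_i p ch hr
    simp only [Bool.and_eq_true, Nat.blt_eq, List.all_eq_true] at hc
    obtain ⟨⟨⟨⟨hch, hp⟩, hL'⟩, hs⟩, hnz⟩ := hc
    rw [hr] at huz
    simp only [ckRefl, List.all_eq_true, Bool.and_eq_true] at huz
    obtain ⟨x, hx, e⟩ := conj_mv h (K := h.genR (F := F) (fun r => okR r = true)) t (bits P L)
      (fun r hr => (mem_bits.1 hr).1) p hp fun j hj => nG_mem_okR h (huz j hj).1 (huz j hj).2
    have hev0 : Ev h t ((bits P L).map fun r => (mvRoot P p r, some [[r]])) (x * prd h t (bits P L) * x⁻¹) := by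
      rw [e]
      generalize bits P L = l
      induction l with
      | nil => simp [Ev]
      | cons a l ihl => exact ⟨t a, _, by simp [EvP, evS, evM], ihl, by simp⟩
    obtain ⟨u, hu, hue⟩ := read h (ev_nf h hC hev0) ((sorted_of_ck hs).1.imp fun hab => Nat.ne_of_lt hab)
    refine hconj x hx _ ?_
    rw [hu, ← eqLs_iff hL']
    refine ih ch hch (hch.trans hi) u (fun r hr => ckNz_ne hnz (fun a ha => ?_) hue hr) ?_
    · simp only [Bool.and_eq_true, Nat.blt_eq] at ha
      exact hN a ha.1 ha.2
    · rw [eqLs_iff hL', ← hu,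
        show x * prd h t (bits P L) * x⁻¹ * (x * prd h t (bits P L) * x⁻¹) =
          x * (prd h t (bits P L) * prd h t (bits P L)) * x⁻¹ by group, hsq, mul_one, mul_inv_cancel]

omit hconj in
theorem sound (hconjG : ∀ x ∈ D.group F, ∀ g, C (x * g * x⁻¹) → C g) (T : List (List Node)) (n : ℕ)
    (hck : ∀ i < n, ckNode P leaves T i = true) : ∀ i < n, Good h C (getN T i).1 (getN T i).2.1 :=
  soundK h hC (okR := fun _ => true)
    (fun x hx => hconjG x ((h.genR_le fun r _ t => h.mem_group_of_xG r t) hx)) hone hleaf T n hck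
    fun i _ => by
      simp only [ckUse]
      split <;> simp [ckRefl]

end Cfsg.Agent.Chev.InvolCert
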