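/-
From a certificate to the classes of involutions.
-/
import Cfsg.Agent.Lib.Chev.InvolCert.Node
import Cfsg.Agent.Lib.Chev.TwistExtra

set_option autoImplicit false

namespace Cfsg.Agent.Chev.InvolCert

open Cfsg.Lie

/-- A word with all coefficients one. -/
def oneW (l : List ℕ) : List AL := l.map fun r => (r, some [[]])

/-- One move: conjugation by a root element at one or by a reflection. -/
def stepOp (P : Pk) (op : Bool × ℕ) (w : List AL) : List AL :=
  bif op.1 then nf P ([(op.2, some [[]])] ++ w ++ [(op.2, some [[]])])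
  else nf P (w.map fun e => (P.w op.2 e.1, e.2))

/-- All coefficients are one. -/
def allOne : List AL → Bool
  | [] => true
  | (_, some [[]]) :: l => allOne l
  | _ :: _ => false

/-- A leaf with the moves bringing it to the representative with the given number. -/
abbrev Leaf := List ℕ × ℕ × List (Bool × ℕ)

/-- Moves are admissible and end at the target. -/
def ckPath (P : Pk) : List (Bool × ℕ) → List AL → List ℕ → Bool
  | [], w, R => allOne w && allOne (nf P (oneW R)) && eqLs (w.map Prod.fst) ((nf P (oneW R)).map Prod.fst)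
  | op :: ops, w, R =>
    (bif op.1 then Nat.blt op.2 P.nroots else Nat.blt op.2 P.rank && w.all fun e => Nat.blt e.1 P.nroots) &&
      ckPath P ops (stepOp P op w) R

/-- The roots of a leaf are orthogonal. -/
def ckTorus (P : Pk) (l : List ℕ) : Bool :=
  l.all fun a => Nat.blt a P.nroots && decide (P.pair a a = 2) &&
    l.all fun b => Nat.beq a b || decide (P.pair a b = 0)

/-- The check of one leaf. -/
def ckLeaf (P : Pk) (reps : List (List ℕ)) (c : Leaf) : Bool :=
  ckTorus P c.1 && Nat.blt c.2.1 reps.length && ckPath P c.2.2 (oneW c.1) (reps.getD c.2.1 [])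

/-- The moves of a leaf use allowed root elements only. -/
def ckOps (P : Pk) (okR : ℕ → Bool) : List (Bool × ℕ) → Bool
  | [] => true
  | op :: ops => (bif op.1 then okR op.2 else okR (P.sim op.2) && okR (P.ng (P.sim op.2))) && ckOps P okR ops

/-- The moves of a leaf and its tori are allowed. -/
def ckLeafUse (P : Pk) (okR : ℕ → Bool) (c : Leaf) : Bool :=
  (c.1.all fun a => okR a && okR (P.ng a)) && ckOps P okR c.2.2

variable {D : ChevalleyDatum} {P : Pk} (h : Ok D P) {F : Type*} [Field F] [CharP F 2]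

theorem ev_one {v : ℕ → F} : ∀ {w : List AL} {g : GL D.Idx F}, allOne w = true → Ev h v w g →
    g = prd h (fun _ => 1) (w.map Prod.fst)
  | [], g, _, hg => hg
  | (r, some [[]]) :: l, g, hw, hg => by
    obtain ⟨x, g', hx, hg', rfl⟩ := hg
    simp only [allOne] at hw
    rw [ev_one hw hg', show x = 1 by simpa [EvP, evS, evM] using hx]
    simp [prd]

theorem ev_oneW {v : ℕ → F} : ∀ l : List ℕ, Ev h v (oneW l) (prd h (fun _ => 1) l)
  | [] => rfl
  | a :: l => ⟨1, _, by simp [EvP, evS, evM], ev_oneW l, by simp [prd]⟩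

variable (hC : P.ckComm = true)
include hC

theorem pathK {okR : ℕ → Bool} {v : ℕ → F} {R : List ℕ} : ∀ (ops : List (Bool × ℕ)) (w : List AL)
    (g : GL D.Idx F), ckOps P okR ops = true → ckPath P ops w R = true → Ev h v w g →
      ∃ x ∈ h.genR (F := F) (fun r => okR r = true), x * g * x⁻¹ = prd h (fun _ => 1) R
  | [], w, g, _, hck, hg => by
    simp only [ckPath, Bool.and_eq_true] at hck
    obtain ⟨⟨h1, h2⟩, h3⟩ := hck
    refine ⟨1, one_mem _, ?_⟩
    rw [one_mul, inv_one, mul_one, ev_one h h1 hg, ev_one h h2 (ev_nf h hC (ev_oneW h (v := v) R)), eqLs_iff h3]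
  | op :: ops, w, g, huse, hck, hg => by
    simp only [ckPath, Bool.and_eq_true] at hck
    obtain ⟨hop, hrest⟩ := hck
    obtain ⟨b, n⟩ := op
    simp only [ckOps, Bool.and_eq_true] at huse
    obtain ⟨huop, hurest⟩ := huse
    have key : ∀ g' y, y ∈ h.genR (F := F) (fun r => okR r = true) → y * g * y⁻¹ = g' →
        Ev h v (stepOp P (b, n) w) g' →
        ∃ x ∈ h.genR (F := F) (fun r => okR r = true), x * g * x⁻¹ = prd h (fun _ => 1) R := by
      intro g' y hy e he
      obtain ⟨x, hx, ex⟩ := pathK ops _ g' hurest hrest he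
      exact ⟨x * y, mul_mem hx hy, by rw [← ex, ← e]; group⟩
    cases b
    · simp only [cond_false, Bool.and_eq_true, Nat.blt_eq, List.all_eq_true] at hop
      simp only [cond_false, Bool.and_eq_true] at huop
      refine key _ (h.nG n) (nG_mem_okR h huop.1 huop.2) rfl ?_
      simp only [stepOp, cond_false]
      refine ev_nf h hC ?_
      obtain ⟨hn, hw⟩ := hop
      clear key hrest
      induction w generalizing g with
      | nil => rw [show g = 1 from hg, mul_one, mul_inv_cancel]; rfl
      | cons e w ih =>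
        obtain ⟨x, g', hx, hg', rfl⟩ := hg
        rw [show h.nG n * (h.xG e.1 x * g') * (h.nG n)⁻¹ =
          (h.nG n * h.xG e.1 x * (h.nG n)⁻¹) * (h.nG n * g' * (h.nG n)⁻¹) by group,
          h.nG_xG hn (hw e List.mem_cons_self)]
        refine ev_cons h (e := (P.w n e.1, e.2)) ?_ (ih g' hg' fun a ha => hw a (List.mem_cons_of_mem _ ha))
        rcases h.eta_cases n e.1 with e' | e' <;> simpa [e', CharTwo.neg_eq] using hx
    · simp only [cond_true, Nat.blt_eq] at hop
      have h1 : Ev h v [(n, some [[]])] (h.xG n (1 : F)) :=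
        ⟨1, 1, by simp [EvP, evS, evM], rfl, (mul_one _).symm⟩
      simp only [cond_true] at huop
      refine key _ (h.xG n 1) (h.xG_mem_genR huop _) rfl ?_
      simp only [stepOp, cond_true]
      rw [inv_x h]
      exact ev_nf h hC (ev_append h (ev_append h h1 hg) h1)

theorem genR_le_group (S : ℕ → Prop) : h.genR (F := F) S ≤ D.group F :=
  h.genR_le fun r _ t => h.mem_group_of_xG r t

theorem ckOps_true : ∀ ops, ckOps P (fun _ => true) ops = true
  | [] => rfl
  | op :: ops => by
    simp only [ckOps, ckOps_true ops, Bool.and_true]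
    cases op.1 <;> rfl

theorem path {v : ℕ → F} {R : List ℕ} (ops : List (Bool × ℕ)) (w : List AL) (g : GL D.Idx F)
    (hck : ckPath P ops w R = true) (hg : Ev h v w g) : ∃ x ∈ D.group F, x * g * x⁻¹ = prd h (fun _ => 1) R := by
  obtain ⟨x, hx, e⟩ := pathK h hC (okR := fun _ => true) ops w g (ckOps_true hC ops) hck hg
  exact ⟨x, genR_le_group h hC _ hx, e⟩

omit hC in
theorem normalizeK [Finite F] {okR : ℕ → Bool} {l : List ℕ} (hl : ckTorus P l = true)
    (huse : ∀ a ∈ l, okR a = true ∧ okR (P.ng a) = true) :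
    ∀ t : ℕ → F, (∀ r ∈ l, t r ≠ 0) →
      ∃ x ∈ h.genR (F := F) (fun r => okR r = true), x * prd h t l * x⁻¹ = prd h (fun _ => 1) l := by
  simp only [ckTorus, List.all_eq_true, Bool.and_eq_true, Nat.blt_eq, decide_eq_true_eq, Bool.or_eq_true, nbeq] at hl
  suffices ∀ (s : List ℕ), (∀ a ∈ s, a ∈ l) → ∀ t : ℕ → F, (∀ r ∈ l, t r ≠ 0) →
      ∃ x ∈ h.genR (F := F) (fun r => okR r = true), ∃ u : ℕ → F, x * prd h t l * x⁻¹ = prd h u l ∧ (∀ r ∈ l, u r ≠ 0) ∧
        (∀ r ∈ s, u r = 1) ∧ ∀ r ∈ l, r ∉ s → u r = t r by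
    intro t ht
    obtain ⟨x, hx, u, e, -, hu, -⟩ := this l (fun a ha => ha) t ht
    refine ⟨x, hx, e.trans (congrArg List.prod (List.map_congr_left fun r hr => by rw [hu r hr]))⟩
  intro s
  induction s with
  | nil => exact fun _ t ht => ⟨1, one_mem _, t, by simp, ht, by simp, fun _ _ _ => rfl⟩
  | cons a s ih =>
    intro hs t ht
    obtain ⟨x, hx, u, e, hu, hu1, hu2⟩ := ih (fun b hb => hs b (List.mem_cons_of_mem _ hb)) t ht
    have ha := hs a List.mem_cons_self
    obtain ⟨⟨han, haa⟩, hab⟩ := hl a ha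
    obtain ⟨σ, hσ⟩ := exists_root (F := F) (k := 2) (Or.inr (Or.inl rfl)) (u a)⁻¹
    have hσ0 : σ ≠ 0 := fun e => hu a ha (by
      rw [e, zero_pow two_ne_zero] at hσ
      exact inv_eq_zero.1 hσ.symm)
    have hta : h.ht a σ ∈ h.genR (F := F) (fun r => okR r = true) :=
      have hg : ∀ u : F, h.nt a u ∈ h.genR (F := F) (fun r => okR r = true) := fun u =>
        mul_mem (mul_mem (h.xG_mem_genR (huse a ha).1 _) (h.xG_mem_genR (huse a ha).2 _)) (h.xG_mem_genR (huse a ha).1 _)
      mul_mem (hg σ) (hg (-1))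
    refine ⟨h.ht a σ * x, mul_mem hta hx, Function.update u a 1, ?_,
      fun r hr => ?_, fun r hr => ?_, fun r hr hrs => ?_⟩
    · rw [show h.ht a σ * x * prd h t l * (h.ht a σ * x)⁻¹ = h.ht a σ * (x * prd h t l * x⁻¹) * (h.ht a σ)⁻¹ by group,
        e, prd, prd, ← MulAut.conj_apply, ← MulEquiv.coe_toMonoidHom, map_list_prod, List.map_map]
      refine congrArg List.prod (List.map_congr_left fun r hr => ?_)
      rw [Function.comp_apply, MulEquiv.coe_toMonoidHom, MulAut.conj_apply, h.ht_eq han hσ0,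
        h.dG_xG _ (hl r hr).1.1]
      congr 1
      by_cases hra : r = a
      · subst hra
        rw [Function.update_self, haa, zpow_two, ← pow_two, hσ, inv_mul_cancel₀ (hu r hr)]
      · rw [Function.update_of_ne hra, (hab r hr).resolve_left (Ne.symm hra), zpow_zero, one_mul]
    · by_cases hra : r = a
      · subst hra; rw [Function.update_self]; exact one_ne_zero
      · rw [Function.update_of_ne hra]; exact hu r hr
    · by_cases hra : r = a
      · subst hra; rw [Function.update_self]
      · rw [Function.update_of_ne hra]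
        exact hu1 r ((List.mem_cons.1 hr).resolve_left hra)
    · rw [Function.update_of_ne (fun e' : r = a => hrs (List.mem_cons.2 (Or.inl e')))]
      exact hu2 r hr fun hh => hrs (List.mem_cons_of_mem _ hh)

theorem normalize [Finite F] {l : List ℕ} (hl : ckTorus P l = true) (t : ℕ → F) (ht : ∀ r ∈ l, t r ≠ 0) :
    ∃ x ∈ D.group F, x * prd h t l * x⁻¹ = prd h (fun _ => 1) l := by
  obtain ⟨x, hx, e⟩ := normalizeK h (okR := fun _ => true) hl (fun _ _ => ⟨rfl, rfl⟩) t ht
  exact ⟨x, genR_le_group h hC _ hx, e⟩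

/-- Every involution is conjugate to a representative. -/
theorem exists_class [Fintype F] {T : List (List Node)} {n root : ℕ} {cert : List Leaf} {reps : List (List ℕ)}
    (hroot : root < n) (hL : eqLs (bits P (getN T root).1) (posL P) = true)
    (hN : Nat.beq (bits P (getN T root).2.1).length 0 = true)
    (hck : ∀ i < n, ckNode P (cert.map Prod.fst) T i = true) (hleaves : cert.all (ckLeaf P reps) = true)
    {g : GL D.Idx F} (hg : g ∈ D.group F) (ho : orderOf g = 2) :
    ∃ R ∈ reps, ∃ x ∈ D.group F, x * g * x⁻¹ = prd h (fun _ => 1) R := by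
  haveI : Fact (Nat.Prime 2) := ⟨Nat.prime_two⟩
  obtain ⟨S, hS⟩ := h.pos_sylow (F := F) 2 hC
  set g' : D.group F := ⟨g, hg⟩
  have hp : IsPGroup 2 (Subgroup.zpowers g') := by
    refine IsPGroup.of_card (n := 1) ?_
    rw [Nat.card_zpowers, pow_one, ← ho, ← Subgroup.orderOf_coe]
  obtain ⟨U, hU⟩ := hp.exists_le_sylow
  obtain ⟨x, hx⟩ := MulAction.exists_smul_eq (D.group F) U S
  have hxU : ((x * g' * x⁻¹ : D.group F) : GL D.Idx F) ∈ D.posUnipotent F := by
    have h1 : x * g' * x⁻¹ ∈ ((x • U : Sylow 2 (D.group F)) : Subgroup (D.group F)) := by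
      rw [Sylow.coe_subgroup_smul, Subgroup.mem_pointwise_smul_iff_inv_smul_mem]
      simpa [mul_assoc] using hU (Subgroup.mem_zpowers g')
    rw [hx, hS, Subgroup.mem_subgroupOf] at h1
    exact h1
  obtain ⟨t, ht⟩ := h.pos_normal_form hC hxU
  push_cast at ht
  let C : GL D.Idx F → Prop := fun y => y = 1 ∨ ∃ R ∈ reps, ∃ z ∈ D.group F, z * y * z⁻¹ = prd h (fun _ => 1) R
  have hconj : ∀ z ∈ D.group F, ∀ y, C (z * y * z⁻¹) → C y := by
    intro z hz y hy
    rcases hy with hy | ⟨R, hR, w, hw, e⟩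
    · exact Or.inl (by simpa using hy)
    · exact Or.inr ⟨R, hR, w * z, mul_mem hw hz, by rw [← e]; group⟩
  have hleaf : ∀ k < (cert.map Prod.fst).length, ∀ u : ℕ → F, (∀ r ∈ (cert.map Prod.fst).getD k [], u r ≠ 0) →
      prd h u ((cert.map Prod.fst).getD k []) * prd h u ((cert.map Prod.fst).getD k []) = 1 →
        C (prd h u ((cert.map Prod.fst).getD k [])) := by
    intro k hk u hu _
    rw [List.length_map] at hk
    have hl : (cert.map Prod.fst).getD k [] = (cert[k]).1 := by
      simp [List.getD_eq_getElem?_getD, hk]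
    rw [hl] at hu ⊢
    have hc := List.all_eq_true.1 hleaves _ (List.getElem_mem hk)
    simp only [ckLeaf, Bool.and_eq_true, Nat.blt_eq] at hc
    obtain ⟨⟨h1, h2⟩, h3⟩ := hc
    obtain ⟨z, hz, e⟩ := normalize h hC h1 u hu
    obtain ⟨w, hw, e'⟩ := path h hC (v := fun _ => (1 : F)) _ _ _ h3 (ev_oneW h _)
    refine hconj z hz _ (e ▸ Or.inr ⟨_, ?_, w, hw, e'⟩)
    rw [List.getD_eq_getElem?_getD, List.getElem?_eq_getElem h2]
    exact List.getElem_mem h2
  have hgood := sound h hC (Or.inl rfl) hleaf hconj T n hck root hroot t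
    (fun r hr => by
      simp only [nbeq, decide_eq_true_eq, List.length_eq_zero_iff] at hN
      rw [hN] at hr
      exact absurd hr List.not_mem_nil)
  rw [eqLs_iff hL, prd, ← ht] at hgood
  have hsq : (x : GL D.Idx F) * g * (x : GL D.Idx F)⁻¹ * ((x : GL D.Idx F) * g * (x : GL D.Idx F)⁻¹) = 1 := by
    rw [show (x : GL D.Idx F) * g * (x : GL D.Idx F)⁻¹ * ((x : GL D.Idx F) * g * (x : GL D.Idx F)⁻¹) =
      (x : GL D.Idx F) * (g * g) * (x : GL D.Idx F)⁻¹ by group, ← pow_two, ← ho, pow_orderOf_eq_one]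
    group
  change (x : GL D.Idx F) * g * (x : GL D.Idx F)⁻¹ * ((x : GL D.Idx F) * g * (x : GL D.Idx F)⁻¹) = 1 →
    C ((x : GL D.Idx F) * g * (x : GL D.Idx F)⁻¹) at hgood
  rcases hgood hsq with h1 | ⟨R, hR, z, hz, e⟩
  · exfalso
    have : g = 1 := by simpa using h1
    rw [this, orderOf_one] at ho
    omega
  · exact ⟨R, hR, z * (x : GL D.Idx F), mul_mem hz x.2, by rw [← e]; group⟩

theorem orderOf_prd {l : List ℕ} (hne : prd h (fun _ => (1 : F)) l ≠ 1)
    (hcm : l.Pairwise fun a b => ckOrth P a b = true) : orderOf (prd h (fun _ => (1 : F)) l) = 2 := by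
  haveI : Fact (Nat.Prime 2) := ⟨Nat.prime_two⟩
  refine orderOf_eq_prime ?_ hne
  rw [pow_two]
  clear hne
  induction l with
  | nil => simp [prd]
  | cons a l ih =>
    obtain ⟨h1, h2⟩ := List.pairwise_cons.1 hcm
    have hc : Commute (h.xG a (1 : F)) (prd h (fun _ => (1 : F)) l) := by
      refine Commute.list_prod_right _ _ fun y hy => ?_
      obtain ⟨b, hb, rfl⟩ := List.mem_map.1 hy
      exact h.commute_xG hC (h1 b hb) 1 1
    rw [show prd h (fun _ => (1 : F)) (a :: l) = h.xG a 1 * prd h (fun _ => 1) l by simp [prd],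
      hc.symm.mul_mul_mul_comm, ih h2, h.xG_add, CharTwo.add_self_eq_zero, h.xG_zero, mul_one]

end Cfsg.Agent.Chev.InvolCert
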