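/-
Ranks modulo two of products of root elements, certified with bit matrices.
-/
import Cfsg.Agent.Lib.Chev.Subgroups
import Mathlib.LinearAlgebra.Matrix.Rank

set_option autoImplicit false

namespace Cfsg.Agent.Chev.InvolCert

open Cfsg.Lie
open scoped Matrix

/-- Bits from a predicate. -/
def ofFn (f : ℕ → Bool) : ℕ → ℕ
  | 0 => 0
  | n + 1 => bif f n then ofFn f n ||| 2 ^ n else ofFn f n

/-- The combination of the rows of `B` selected by the bits of `a`. -/
def mulRow (a : ℕ) (B : List ℕ) : ℕ → ℕ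
  | 0 => 0
  | n + 1 => bif Nat.testBit a n then mulRow a B n ^^^ B.getD n 0 else mulRow a B n

/-- The combination of the rows selected by the bits of `a`, walking along the rows. -/
def mulWalk : List ℕ → ℕ → ℕ
  | [], _ => 0
  | b :: B, a => bif Nat.beq (a % 2) 1 then b ^^^ mulWalk B (a / 2) else mulWalk B (a / 2)

/-- The first rows of a bit matrix. -/
def rowsB (d : ℕ) (B : List ℕ) : List ℕ := (List.range d).map fun n => B.getD n 0

/-- Product of bit matrices. -/
def mulB (d : ℕ) (A B : List ℕ) : List ℕ :=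
  let B' := rowsB d B
  (List.range d).map fun i => mulWalk B' (A.getD i 0)

theorem mulWalk_append : ∀ (l : List ℕ) (b a : ℕ),
    mulWalk (l ++ [b]) a = bif Nat.testBit a l.length then mulWalk l a ^^^ b else mulWalk l a
  | [], b, a => by
    rcases Nat.mod_two_eq_zero_or_one a with e | e <;> simp [mulWalk, Nat.testBit_zero, e, nbeq]
  | x :: l, b, a => by
    rw [List.cons_append, mulWalk, mulWalk, mulWalk_append l b (a / 2), List.length_cons, Nat.testBit_succ]
    cases Nat.beq (a % 2) 1 <;> cases Nat.testBit (a / 2) l.length <;> simp [Nat.xor_assoc]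

theorem mulWalk_rows (B : List ℕ) (a : ℕ) : ∀ d, mulWalk (rowsB d B) a = mulRow a B d
  | 0 => rfl
  | d + 1 => by
    have e : rowsB (d + 1) B = rowsB d B ++ [B.getD d 0] := by
      rw [rowsB, rowsB, List.range_succ, List.map_append]; rfl
    rw [e, mulWalk_append, mulRow, mulWalk_rows B a d, rowsB, List.length_map, List.length_range]

/-- Sum of bit matrices. -/
def addB (d : ℕ) (A B : List ℕ) : List ℕ := (List.range d).map fun i => A.getD i 0 ^^^ B.getD i 0

/-- A diagonal bit matrix. -/
def diagB (d : ℕ) (p : ℕ → Bool) : List ℕ := (List.range d).map fun i => bif p i then 2 ^ i else 0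

/-- The root element at one, modulo two. -/
def xB (P : Pk) (r : ℕ) : List ℕ :=
  let cols := (List.range P.dim).map fun c => P.xcol r 1 c
  (List.range P.dim).map fun q => ofFn (fun c => !(cf (cols.getD c []) q % 2 == 0)) P.dim

/-- A product of root elements at one, modulo two. -/
def prodB (P : Pk) : List ℕ → List ℕ
  | [] => diagB P.dim fun _ => true
  | r :: l => mulB P.dim (xB P r) (prodB P l)

/-- The subspace of the coordinates selected by `w` is stable modulo two. -/
def ckW (P : Pk) (w : ℕ → Bool) : Bool :=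
  (List.range P.nroots).all fun r => (List.range P.dim).all fun c => !(w c) ||
    (List.range 4).all fun k => let col := P.colL k r c
      col.all fun e => w e.1 || cf col e.1 % 2 == 0

theorem testBit_ofFn (f : ℕ → Bool) : ∀ n c, Nat.testBit (ofFn f n) c = (decide (c < n) && f c)
  | 0, c => by simp [ofFn]
  | n + 1, c => by
    have ih := testBit_ofFn f n c
    rw [ofFn]
    rcases Nat.lt_trichotomy c n with h | h | h
    · cases hf : f n <;> simp [ih, h, Nat.lt_succ_of_lt h, h.ne']
    · subst h; cases hf : f c <;> simp [ih, hf]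
    · cases hf : f n <;> simp [ih, Nat.not_lt_of_gt h, show ¬ c < n + 1 by omega, h.ne]

variable {D : ChevalleyDatum} {P : Pk} {F : Type*} [Field F] [CharP F 2]

/-- The matrix of a bit matrix. -/
def MF (D : ChevalleyDatum) (P : Pk) (F : Type*) [Field F] (A : List ℕ) : Matrix D.Idx D.Idx F :=
  Matrix.of fun i j => if Nat.testBit (A.getD (code P i) 0) (code P j) then 1 else 0

theorem getD_map_range {α : Type*} (f : ℕ → α) (d : α) {n i : ℕ} (hi : i < n) :
    ((List.range n).map f).getD i d = f i := by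
  simp [List.getD_eq_getElem?_getD, List.getElem?_map, List.getElem?_range hi]

theorem bit_xor (a b : Bool) :
    ((if (a ^^ b) then 1 else 0) : F) = (if a then 1 else 0) + if b then 1 else 0 := by
  cases a <;> cases b <;> simp [CharTwo.add_self_eq_zero]

variable (h : Ok D P)
include h

theorem sum_range_code (f : ℕ → F) : ∑ x : D.Idx, f (code P x) = ∑ c ∈ Finset.range P.dim, f c := by
  refine Finset.sum_bij (fun x _ => code P x) (fun x _ => Finset.mem_range.2 (h.code_lt x))
    (fun x _ y _ e => h.code_inj e) (fun c hc => ?_) fun x _ => rfl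
  obtain ⟨x, hx⟩ := h.exists_code (Finset.mem_range.1 hc)
  exact ⟨x, Finset.mem_univ _, hx⟩

theorem MF_mul (A B : List ℕ) : MF D P F (mulB P.dim A B) = MF D P F A * MF D P F B := by
  ext i j
  rw [Matrix.mul_apply]
  simp only [MF, Matrix.of_apply]
  rw [sum_range_code h fun c => (if Nat.testBit (A.getD (code P i) 0) c then (1 : F) else 0) *
    if Nat.testBit (B.getD c 0) (code P j) then 1 else 0]
  rw [mulB, getD_map_range _ _ (h.code_lt i), mulWalk_rows]
  generalize A.getD (code P i) 0 = a
  induction P.dim with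
  | zero => simp [mulRow]
  | succ n ih =>
    rw [Finset.sum_range_succ, ← ih, mulRow]
    cases ha : Nat.testBit a n
    · simp
    · simp only [cond_true, Nat.testBit_xor, bit_xor, if_true, one_mul]

theorem MF_add (A B : List ℕ) : MF D P F (addB P.dim A B) = MF D P F A + MF D P F B := by
  ext i j
  simp only [MF, Matrix.of_apply, Matrix.add_apply, addB, getD_map_range _ _ (h.code_lt i), Nat.testBit_xor, bit_xor]

theorem MF_diag (p : ℕ → Bool) :
    MF D P F (diagB P.dim p) = Matrix.diagonal fun i => if p (code P i) then 1 else 0 := by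
  ext i j
  simp only [MF, Matrix.of_apply, diagB, getD_map_range _ _ (h.code_lt i), Matrix.diagonal_apply]
  cases hp : p (code P i)
  · simp
  · simp [Nat.testBit_two_pow, h.code_inj.eq_iff]

theorem MF_one : MF D P F (diagB P.dim fun _ => true) = 1 := by
  rw [MF_diag h]; simp

theorem MF_xB {r : ℕ} (hr : r < P.nroots) : MF D P F (xB P r) = (h.xG r (1 : F) : Matrix D.Idx D.Idx F) := by
  rw [h.coe_xG' hr, show X D P r (1 : F) = (X D P r (1 : ℤ)).map (Int.castRingHom F) by rw [X_map, map_one],
    h.X_int hr]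
  ext i j
  simp only [MF, Matrix.of_apply, Matrix.map_apply, opM_apply, xB, getD_map_range _ _ (h.code_lt i),
    testBit_ofFn, h.code_lt j, decide_true, Bool.true_and, getD_map_range _ _ (h.code_lt j), eq_intCast]
  generalize cf (P.xcol r 1 (code P j)) (code P i) = z
  obtain ⟨k, rfl | rfl⟩ := Int.even_or_odd' z
  · simp [CharTwo.two_eq_zero]
  · simp [CharTwo.two_eq_zero, show (2 * k + 1) % 2 = 1 by omega]

theorem MF_prodB : ∀ {l : List ℕ}, (∀ r ∈ l, r < P.nroots) →
    MF D P F (prodB P l) = (((l.map fun r => h.xG r (1 : F)).prod : GL D.Idx F) : Matrix D.Idx D.Idx F)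
  | [], _ => by simp [prodB, MF_one h]
  | r :: l, hl => by
    rw [prodB, MF_mul h, MF_xB h (hl r List.mem_cons_self), MF_prodB fun x hx => hl x (List.mem_cons_of_mem _ hx),
      List.map_cons, List.prod_cons, Units.val_mul]

theorem rank_diag (r : ℕ) (hr : r ≤ P.dim) :
    (MF D P F (diagB P.dim fun i => Nat.blt i r)).rank = r := by
  classical
  rw [MF_diag h, Matrix.rank_diagonal]
  have he : ∀ i : D.Idx, (if Nat.blt (code P i) r then (1 : F) else 0) ≠ 0 ↔ code P i < r := fun i => by
    rw [← Nat.blt_eq]; cases Nat.blt (code P i) r <;> simp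
  rw [Fintype.card_congr (Equiv.subtypeEquivRight he)]
  refine (Fintype.card_congr ?_).trans (Fintype.card_fin r)
  refine Equiv.ofBijective (fun i => (⟨code P i.1, i.2⟩ : Fin r)) ⟨fun a b e => ?_, fun c => ?_⟩
  · exact Subtype.ext (h.code_inj (congrArg Fin.val e))
  · obtain ⟨x, hx⟩ := h.exists_code (c.isLt.trans_le hr)
    exact ⟨⟨x, hx.symm ▸ c.isLt⟩, Fin.ext hx⟩

theorem stable {w : ℕ → Bool} (hw : ckW P w = true) {g : GL D.Idx F} (hg : g ∈ D.group F) :
    ∀ i j : D.Idx, w (code P j) = true → w (code P i) = false → (g : Matrix D.Idx D.Idx F) i j = 0 := by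
  let S : Submonoid (Matrix D.Idx D.Idx F) :=
    { carrier := {M | ∀ i j, w (code P j) = true → w (code P i) = false → M i j = 0}
      mul_mem' := by
        intro M N hM hN i j hj hi
        rw [Matrix.mul_apply]
        refine Finset.sum_eq_zero fun k _ => ?_
        cases hk : w (code P k)
        · rw [hN k j hj hk, mul_zero]
        · rw [hM i k hk hi, zero_mul]
      one_mem' := fun i j hj hi => Matrix.one_apply_ne fun e => by rw [e, hj] at hi; exact Bool.noConfusion hi }
  have hX : ∀ r < P.nroots, ∀ t : F, (h.xG r t : Matrix D.Idx D.Idx F) ∈ S := by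
    intro r hr t i j hj hi
    rw [h.coe_xG' hr, X, Matrix.sum_apply]
    refine Finset.sum_eq_zero fun k hk => ?_
    rw [Matrix.smul_apply, cM_apply, Ek, opM_apply, smul_eq_mul]
    simp only [ckW, List.all_eq_true, List.mem_range, Bool.or_eq_true, Bool.not_eq_true'] at hw
    have h2 := ((hw r hr _ (h.code_lt j)).resolve_left (by simp [hj])) k (Finset.mem_range.1 hk)
    refine mul_eq_zero_of_right _ ?_
    by_cases hz : cf (P.colL k r (code P j)) (code P i) = 0
    · rw [hz, Int.cast_zero]
    · obtain ⟨e, he, hei⟩ : ∃ e ∈ P.colL k r (code P j), e.1 = code P i := by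
        by_contra hc
        exact hz (cf_eq_zero fun p hp e => hc ⟨p, hp, e⟩)
      rcases h2 e he with h3 | h3
      · rw [hei, hi] at h3; exact Bool.noConfusion h3
      · rw [hei, beq_iff_eq] at h3
        obtain ⟨a, ha⟩ := Int.dvd_of_emod_eq_zero h3
        rw [ha, Int.cast_mul, Int.cast_ofNat, CharTwo.two_eq_zero, zero_mul]
  let S' : Subgroup (GL D.Idx F) :=
    { carrier := {g | (g : Matrix D.Idx D.Idx F) ∈ S ∧ ((g⁻¹ : GL D.Idx F) : Matrix D.Idx D.Idx F) ∈ S}
      mul_mem' := fun {a b} ha hb => ⟨by rw [Units.val_mul]; exact S.mul_mem ha.1 hb.1,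
        by rw [mul_inv_rev, Units.val_mul]; exact S.mul_mem hb.2 ha.2⟩
      one_mem' := ⟨by rw [Units.val_one]; exact S.one_mem, by rw [inv_one, Units.val_one]; exact S.one_mem⟩
      inv_mem' := fun {a} ha => ⟨ha.2, by rw [inv_inv]; exact ha.1⟩ }
  exact (h.group_le (S := S') (fun r hr t => ⟨hX r hr t, by rw [h.xG_inv]; exact hX r hr _⟩) hg).1

/-- The certificate separating two products of root elements. -/
def ckSep (P : Pk) (w : ℕ → Bool) (l₁ l₂ : List ℕ) (r₁ r₂ : ℕ) (A B C G : List ℕ) : Bool :=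
  let one := diagB P.dim fun _ => true
  let W := diagB P.dim w
  let E₁ := mulB P.dim (addB P.dim (prodB P l₁) one) W
  let E₂ := mulB P.dim (addB P.dim (prodB P l₂) one) W
  (l₁ ++ l₂).all (fun r => Nat.blt r P.nroots) && Nat.blt r₁ r₂ && Nat.ble r₂ P.dim &&
    decide (mulB P.dim A B = E₁) && decide (mulB P.dim (diagB P.dim fun i => Nat.blt i r₁) B = B) &&
    decide (mulB P.dim (mulB P.dim C E₂) G = diagB P.dim fun i => Nat.blt i r₂)

theorem not_conj {w : ℕ → Bool} (hw : ckW P w = true) {l₁ l₂ : List ℕ} {r₁ r₂ : ℕ} {A B C G : List ℕ}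
    (hck : ckSep P w l₁ l₂ r₁ r₂ A B C G = true) {x : GL D.Idx F} (hx : x ∈ D.group F) :
    x * (l₁.map fun r => h.xG r (1 : F)).prod * x⁻¹ ≠ (l₂.map fun r => h.xG r (1 : F)).prod := by
  classical
  intro e
  simp only [ckSep, Bool.and_eq_true, List.all_eq_true, List.mem_append, Nat.blt_eq, Nat.ble_eq,
    decide_eq_true_eq] at hck
  obtain ⟨⟨⟨⟨⟨hl, hr⟩, hd⟩, hA⟩, hB⟩, hC⟩ := hck
  set W := MF D P F (diagB P.dim w) with hW
  set Y₁ := (((l₁.map fun r => h.xG r (1 : F)).prod : GL D.Idx F) : Matrix D.Idx D.Idx F) with hY1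
  set Y₂ := (((l₂.map fun r => h.xG r (1 : F)).prod : GL D.Idx F) : Matrix D.Idx D.Idx F) with hY2
  have hA' := congrArg (MF D P F) hA
  rw [MF_mul h, MF_mul h, MF_add h, MF_one h, MF_prodB h fun r hr' => hl r (Or.inl hr'), ← hW] at hA'
  have hB' := congrArg (MF D P F) hB
  rw [MF_mul h] at hB'
  have hC' := congrArg (MF D P F) hC
  rw [MF_mul h, MF_mul h, MF_mul h, MF_add h, MF_one h, MF_prodB h fun r hr' => hl r (Or.inr hr'), ← hW] at hC'
  have hY : Y₂ + 1 = (x : Matrix D.Idx D.Idx F) * (Y₁ + 1) * ((x⁻¹ : GL D.Idx F) : Matrix D.Idx D.Idx F) := by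
    rw [mul_add, add_mul, mul_one, ← Units.val_mul, ← Units.val_mul, ← Units.val_mul, e, mul_inv_cancel,
      Units.val_one]
  have hst : ((x⁻¹ : GL D.Idx F) : Matrix D.Idx D.Idx F) * W = W * ((x⁻¹ : GL D.Idx F) : Matrix D.Idx D.Idx F) * W := by
    ext i j
    rw [hW, MF_diag h, Matrix.mul_diagonal, Matrix.mul_diagonal, Matrix.diagonal_mul]
    cases hi : w (code P i) <;> cases hj : w (code P j) <;> simp
    simpa using stable h hw (inv_mem hx) i j hj hi
  have h2 : r₂ ≤ ((Y₂ + 1) * W).rank := by
    rw [← rank_diag (F := F) h r₂ hd, ← hC']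
    exact ((Matrix.rank_mul_le_left _ _).trans (Matrix.rank_mul_le_right _ _))
  have h1 : ((Y₂ + 1) * W).rank ≤ r₁ := by
    rw [hY, mul_assoc, hst, ← mul_assoc, ← mul_assoc, mul_assoc _ (Y₁ + 1) W, ← hA', ← hB', ← mul_assoc, ← mul_assoc]
    refine (Matrix.rank_mul_le_left _ _).trans ((Matrix.rank_mul_le_left _ _).trans
      ((Matrix.rank_mul_le_left _ _).trans ?_))
    exact (Matrix.rank_mul_le_right _ _).trans_eq (rank_diag (F := F) h r₁ (le_trans hr.le hd))
  omega

end Cfsg.Agent.Chev.InvolCert
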