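/-
The classes of involutions from the certificates.
-/
import Cfsg.Agent.Lib.Chev.InvolCert.Classes
import Cfsg.Agent.Lib.Chev.InvolCert.Rank
import Cfsg.Agent.Lib.Chev.Unipotent

set_option autoImplicit false

namespace Cfsg.Agent.Chev.InvolCert

open Cfsg.Lie

/-- The representatives are products of commuting, strongly orthogonal root elements. -/
def ckRep (P : Pk) (R : List ℕ) : Bool :=
  !(R.isEmpty) &&
    (R.all fun a => P.isPos a) && ckPairs P R && ckSorted P ((nf P (oneW R)).map Prod.fst) &&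
    allOne (nf P (oneW R)) && !((nf P (oneW R)).isEmpty)
where
  /-- Pairwise commuting. -/
  ckPairs (P : Pk) : List ℕ → Bool
    | [] => true
    | a :: l => (l.all fun b => ckOrth P a b) && ckPairs P l

variable {D : ChevalleyDatum} {P : Pk} (h : Ok D P) {F : Type*} [Field F] [CharP F 2] (hC : P.ckComm = true)
include hC

omit hC in
theorem pairs_iff : ∀ {l : List ℕ}, ckRep.ckPairs P l = true → l.Pairwise fun a b => ckOrth P a b = true
  | [], _ => List.Pairwise.nil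
  | a :: l, hl => by
    simp only [ckRep.ckPairs, Bool.and_eq_true, List.all_eq_true] at hl
    exact List.pairwise_cons.2 ⟨hl.1, pairs_iff hl.2⟩

theorem rep_spec {R : List ℕ} (hR : ckRep P R = true) :
    prd h (fun _ => (1 : F)) R ∈ D.group F ∧ orderOf (prd h (fun _ => (1 : F)) R) = 2 := by
  simp only [ckRep, Bool.and_eq_true, Bool.not_eq_true'] at hR
  obtain ⟨⟨⟨⟨⟨-, -⟩, h2⟩, h3⟩, h4⟩, h5⟩ := hR
  refine ⟨Subgroup.list_prod_mem _ fun y hy => ?_, orderOf_prd h hC ?_ (pairs_iff h2)⟩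
  · obtain ⟨r, -, rfl⟩ := List.mem_map.1 hy
    exact h.mem_group_of_xG _ _
  · intro e
    rw [ev_one h h4 (ev_nf h hC (ev_oneW h (v := fun _ => (1 : F)) R))] at e
    obtain ⟨hs, hp⟩ := sorted_of_ck h3
    have h0 := h.prod_unique (F := F) _ hs hp (fun _ => 1) (fun _ => 0) (e.trans (List.prod_eq_one fun x hx => by
      obtain ⟨r, -, rfl⟩ := List.mem_map.1 hx
      exact h.xG_zero r).symm)
    match hw : nf P (oneW R), h5 with
    | a :: l, _ => exact one_ne_zero (α := F) (h0 a.1 (by simp [hw]))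

omit hC in
theorem prd_val (R : List ℕ) :
    ((prd h (fun _ => (1 : F)) R : GL D.Idx F) : Matrix D.Idx D.Idx F) = (R.map fun r => D.x F r 1).prod := by
  induction R with
  | nil => simp [prd]
  | cons a l ih =>
    rw [List.map_cons, List.prod_cons, ← ih, prd, prd, List.map_cons, List.prod_cons, Units.val_mul, h.coe_xG]

omit hC in
theorem prd_prod (R : List ℕ) : prd h (fun _ => (1 : F)) R = (R.map fun r => h.xG r (1 : F)).prod := rfl

/-- The classes of involutions. -/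
theorem classes {reps : List (List ℕ)} (hreps : reps.all (ckRep P) = true)
    (hcov : ∀ g ∈ D.group F, orderOf g = 2 → ∃ R ∈ reps, ∃ x ∈ D.group F, x * g * x⁻¹ = prd h (fun _ => 1) R)
    (hsep : ∀ i j, i < reps.length → j < reps.length → i ≠ j → ∀ x ∈ D.group F,
      x * prd h (fun _ => (1 : F)) (reps.getD i []) * x⁻¹ ≠ prd h (fun _ => 1) (reps.getD j []))
    (l : List (Matrix D.Idx D.Idx F)) (hl : l = reps.map fun R => (R.map fun r => D.x F r 1).prod) :
    (∀ y : GL D.Idx F, (y : Matrix D.Idx D.Idx F) ∈ l → y ∈ D.group F ∧ orderOf y = 2) ∧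
    (∀ g ∈ D.group F, orderOf g = 2 → ∃ y ∈ D.group F, (y : Matrix D.Idx D.Idx F) ∈ l ∧
      ∃ x ∈ D.group F, x * g * x⁻¹ = y) ∧
    (∀ y₁ ∈ D.group F, ∀ y₂ ∈ D.group F, (y₁ : Matrix D.Idx D.Idx F) ∈ l → (y₂ : Matrix D.Idx D.Idx F) ∈ l →
      (∃ x ∈ D.group F, x * y₁ * x⁻¹ = y₂) → (y₁ : Matrix D.Idx D.Idx F) = (y₂ : Matrix D.Idx D.Idx F)) := by
  have hmem : ∀ y : GL D.Idx F, (y : Matrix D.Idx D.Idx F) ∈ l →
      ∃ i < reps.length, y = prd h (fun _ => 1) (reps.getD i []) := by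
    intro y hy
    rw [hl, List.mem_map] at hy
    obtain ⟨R, hR, e⟩ := hy
    obtain ⟨i, hi, rfl⟩ := List.getElem_of_mem hR
    exact ⟨i, hi, Units.ext (by rw [prd_val h, ← e]; simp [List.getD_eq_getElem?_getD, hi])⟩
  have hR : ∀ i < reps.length, reps.getD i [] ∈ reps := fun i hi => by
    simp [List.getD_eq_getElem?_getD, hi]
  refine ⟨fun y hy => ?_, fun g hg ho => ?_, fun y₁ _ y₂ _ h₁ h₂ hc => ?_⟩
  · obtain ⟨i, hi, rfl⟩ := hmem y hy
    exact rep_spec h hC (List.all_eq_true.1 hreps _ (hR i hi))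
  · obtain ⟨R, hR', x, hx, e⟩ := hcov g hg ho
    exact ⟨_, (rep_spec h hC (List.all_eq_true.1 hreps _ hR')).1,
      hl ▸ List.mem_map.2 ⟨R, hR', (prd_val h R).symm⟩, x, hx, e⟩
  · obtain ⟨i, hi, rfl⟩ := hmem y₁ h₁
    obtain ⟨j, hj, rfl⟩ := hmem y₂ h₂
    obtain ⟨x, hx, e⟩ := hc
    by_cases hij : i = j
    · rw [hij]
    · exact absurd e (hsep i j hi hj hij x hx)

omit hC in
theorem ne_of_sep {w : ℕ → Bool} (hw : ckW P w = true) {R₁ R₂ : List ℕ} {r₁ r₂ : ℕ} {A B C G : List ℕ}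
    (hck : ckSep P w R₁ R₂ r₁ r₂ A B C G = true) {x : GL D.Idx F} (hx : x ∈ D.group F) :
    x * prd h (fun _ => (1 : F)) R₁ * x⁻¹ ≠ prd h (fun _ => 1) R₂ ∧
      x * prd h (fun _ => (1 : F)) R₂ * x⁻¹ ≠ prd h (fun _ => 1) R₁ :=
  ⟨not_conj h hw hck hx, fun e => not_conj h hw hck (inv_mem hx) (x := x⁻¹)
    (by rw [← prd_prod h, ← prd_prod h, ← e]; group)⟩

/-- The number of classes of involutions. -/
theorem class_count {reps : List (List ℕ)} (hreps : reps.all (ckRep P) = true)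
    (hcov : ∀ g ∈ D.group F, orderOf g = 2 → ∃ R ∈ reps, ∃ x ∈ D.group F, x * g * x⁻¹ = prd h (fun _ => 1) R)
    (hsep : ∀ i j, i < reps.length → j < reps.length → i ≠ j → ∀ x ∈ D.group F,
      x * prd h (fun _ => (1 : F)) (reps.getD i []) * x⁻¹ ≠ prd h (fun _ => 1) (reps.getD j [])) :
    (ConjClasses.mk '' {g : ↥(D.group F) | orderOf g = 2}).ncard = reps.length := by
  have hR : ∀ i : Fin reps.length, prd h (fun _ => (1 : F)) reps[i] ∈ D.group F ∧
      orderOf (prd h (fun _ => (1 : F)) reps[i]) = 2 := fun i =>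
    rep_spec h hC (List.all_eq_true.1 hreps _ (List.getElem_mem i.isLt))
  let f : Fin reps.length → ConjClasses ↥(D.group F) := fun i => ConjClasses.mk ⟨_, (hR i).1⟩
  have hf : Function.Injective f := by
    intro i j e
    obtain ⟨c, hc⟩ := isConj_iff.1 (ConjClasses.mk_eq_mk_iff_isConj.1 e)
    by_contra hij
    refine hsep i j i.isLt j.isLt (Fin.val_ne_of_ne hij) (c : GL D.Idx F) c.2 ?_
    rw [List.getD_eq_getElem _ _ i.isLt, List.getD_eq_getElem _ _ j.isLt]
    exact congrArg Subtype.val hc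
  rw [show ConjClasses.mk '' {g : ↥(D.group F) | orderOf g = 2} = Set.range f from ?_,
    Set.ncard_range_of_injective hf, Nat.card_eq_fintype_card, Fintype.card_fin]
  refine Set.Subset.antisymm ?_ ?_
  · rintro _ ⟨g, hg, rfl⟩
    have ho : orderOf (g : GL D.Idx F) = 2 := by rw [Subgroup.orderOf_coe]; exact hg
    obtain ⟨R, hR', x, hx, e⟩ := hcov _ g.2 ho
    obtain ⟨i, hi, rfl⟩ := List.getElem_of_mem hR'
    exact ⟨⟨i, hi⟩, (ConjClasses.mk_eq_mk_iff_isConj.2 (isConj_iff.2 ⟨⟨x, hx⟩, Subtype.ext e⟩)).symm⟩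
  · rintro _ ⟨i, rfl⟩
    exact ⟨⟨_, (hR i).1⟩, show orderOf _ = 2 by rw [← Subgroup.orderOf_coe]; exact (hR i).2, rfl⟩

end Cfsg.Agent.Chev.InvolCert
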