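/-
A faster collection for the types with a single root length.
-/
import Cfsg.Agent.Lib.Chev.InvolCert.Node

set_option autoImplicit false

namespace Cfsg.Agent.Chev.InvolCert

/-- The sum of two positive roots, zero when it is no root, from a packed row for each first root. -/
def sumR (Q : ℕ → ℕ) (f e : ℕ) : ℕ := (Q f >>> (8 * e)) &&& 255

/-- The terms of the commutator of two letters, from the packed sums. -/
def corrQ (P : Pk) (Q : ℕ → ℕ) (e f : AL) : List AL :=
  bif P.isPos e.1 && P.isPos f.1 && Nat.blt f.1 e.1 then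
    bif Nat.beq (sumR Q f.1 e.1) 0 then []
    else [(sumR Q f.1 e.1, pmul (ppow f.2 1) (ppow e.2 1))]
  else corr P e f

/-- The table agrees with the commutator words modulo two. -/
def ckQ (P : Pk) (Q : ℕ → ℕ) : Bool :=
  P.allRoots.all fun e => P.allRoots.all fun f => !(P.isPos e && P.isPos f && Nat.blt f e) ||
    decide (((P.cword f e).filterMap fun c => if c.2.1 % 2 == 0 then none else some (c.1, c.2.2.1, c.2.2.2)) =
      bif Nat.beq (sumR Q f e) 0 then [] else [(sumR Q f e, 1, 1)])

theorem corrQ_eq {P : Pk} {Q : ℕ → ℕ} (hQ : ckQ P Q = true) (e f : AL) : corrQ P Q e f = corr P e f := by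
  unfold corrQ
  cases hc : P.isPos e.1 && P.isPos f.1 && Nat.blt f.1 e.1
  · rfl
  have hc' := hc
  simp only [Bool.and_eq_true, Pk.isPos, Nat.ble_eq, Nat.blt_eq] at hc'
  have h := List.all_eq_true.1 (List.all_eq_true.1 hQ e.1 (by simp [Pk.mem_allRoots]; omega)) f.1
    (by simp [Pk.mem_allRoots]; omega)
  rw [hc, Bool.not_true, Bool.false_or, decide_eq_true_eq] at h
  have h2 : corr P e f = ((P.cword f.1 e.1).filterMap fun c =>
      if c.2.1 % 2 == 0 then none else some (c.1, c.2.2.1, c.2.2.2)).map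
        fun t : ℕ × ℕ × ℕ => (t.1, pmul (ppow f.2 t.2.1) (ppow e.2 t.2.2)) := by
    unfold corr
    rw [List.map_filterMap]
    refine congrArg (fun F => List.filterMap F _) (funext fun c => ?_)
    split <;> rfl
  rw [cond_true, h2, h]
  cases Nat.beq (sumR Q f.1 e.1) 0 <;> rfl

/-- Insertion with the table. -/
def insQ (P : Pk) (Q : ℕ → ℕ) : ℕ → AL → List AL → List AL
  | 0, e, w => e :: w
  | n + 1, e, w =>
    bif isZ e.2 then w else
    match w with
    | [] => [e]
    | f :: w =>
      bif Nat.beq e.1 f.1 then (bif isZ (padd e.2 f.2) then w else (e.1, padd e.2 f.2) :: w)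
      else bif Nat.blt e.1 f.1 then e :: f :: w
      else bif Nat.blt e.1 P.nroots && Nat.blt f.1 P.nroots && !(Nat.beq e.1 (P.ng f.1)) then
        insQ P Q n f (insQ P Q n e ((corrQ P Q e f).foldr (insQ P Q n) w))
      else e :: f :: w

/-- The collected form with the table. -/
def nfQ (P : Pk) (Q : ℕ → ℕ) (w : List AL) : List AL := w.foldr (insQ P Q 400) []

theorem insQ_eq {P : Pk} {Q : ℕ → ℕ} (hQ : ckQ P Q = true) : ∀ n, insQ P Q n = ins P n
  | 0 => rfl
  | n + 1 => by
    funext e w
    unfold insQ ins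
    rw [insQ_eq hQ n]
    cases isZ e.2
    · cases w with
      | nil => rfl
      | cons f w => simp only [corrQ_eq hQ]
    · rfl

theorem nfQ_eq {P : Pk} {Q : ℕ → ℕ} (hQ : ckQ P Q = true) : nfQ P Q = nf P := by
  funext w
  rw [nfQ, nf, insQ_eq hQ]

/-- A node checked with the table is a checked node. -/
theorem ckNode_of_fast {P : Pk} {Q : ℕ → ℕ} (hQ : ckQ P Q = true) {leaves : List (List ℕ)} {T : List (List Node)}
    {i : ℕ} (hc : ckNodeW P (nfQ P Q) leaves T i = true) : ckNode P leaves T i = true := by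
  rw [ckNode, ← nfQ_eq hQ]; exact hc

end Cfsg.Agent.Chev.InvolCert
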