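/-
Covering the involutions of a unipotent group stage by stage along Levi subgroups.
-/
import Cfsg.Agent.Lib.Chev.InvolCert.Classes

set_option autoImplicit false

namespace Cfsg.Agent.Chev.InvolCert

open Cfsg.Lie

/-- The roots whose coefficients from position `k` on vanish. -/
def inL (P : Pk) (k r : ℕ) : Bool :=
  Nat.blt r P.nroots && (List.range (P.rank - k)).all fun i => decide (P.rv r (k + i) = 0)

/-- The positive roots of the Levi subsystem. -/
def levP (P : Pk) (k : ℕ) : List ℕ := (posL P).filter (inL P k)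

/-- The positive roots added at the next stage. -/
def qs (P : Pk) (k : ℕ) : List ℕ := (posL P).filter fun r => inL P (k + 1) r && !(inL P k r)

/-- A word without information. -/
def noneW (l : List ℕ) : List AL := l.map fun r => (r, none)

/-- A word supported in a list. -/
def ckSupp (P : Pk) (S : List ℕ) (w : List AL) : Bool :=
  ckSorted P (w.map Prod.fst) && eqLs (w.map Prod.fst) (S.filter fun r => (w.map Prod.fst).any (Nat.beq r))

/-- The grade of a coordinate. -/
def grd (P : Pk) (k c : ℕ) : ℤ := bif Nat.blt c P.nroots then P.rv c k else 0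

/-- The root elements of the next stage respect the grading. -/
def ckGrade (P : Pk) (k : ℕ) : Bool :=
  P.allRoots.all fun r => !(inL P (k + 1) r && (inL P k r || P.isPos r)) ||
    ((bif inL P k r then decide (P.rv r k = 0) else decide (0 < P.rv r k)) &&
      (List.range P.dim).all fun c => (List.range 4).all fun m => let col := P.colL m r c
        col.all fun e => cf col e.1 % 2 == 0 || decide (grd P k e.1 = grd P k c + m * P.rv r k) &&
          (!(Nat.beq m 0) || Nat.beq e.1 c))

/-- The added root elements form a subgroup normalised by the Levi subgroup. -/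
def ckRad (P : Pk) (k : ℕ) : Bool :=
  ckSupp P (qs P k) (nf P (noneW (qs P k) ++ noneW (qs P k))) &&
    P.allRoots.all fun g => !(inL P k g) ||
      ckSupp P (qs P k) (nf P ([(g, some [[lam]])] ++ noneW (qs P k) ++ [(g, some [[lam]])]))

/-- The start of the certificate for one representative of the previous stage. -/
def ckStart (P : Pk) (k : ℕ) (T : List (List Node)) (n : ℕ) (R : List ℕ) (root : ℕ) : Bool :=
  let out := nf P (oneW R ++ noneW (qs P k))
  Nat.blt root n && eqLs (bits P (getN T root).1) (out.map Prod.fst) && ckSorted P (out.map Prod.fst) &&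
    ckNz (fun _ => false) out (bits P (getN T root).2.1)

variable {D : ChevalleyDatum} {P : Pk} (h : Ok D P) (F : Type*) [Field F] [CharP F 2]

/-- The group generated by the root elements of a Levi subsystem. -/
def levG (k : ℕ) : Subgroup (GL D.Idx F) := h.genR (fun r => inL P k r = true)

/-- Every element squaring to one of the unipotent Levi group is conjugate to a representative. -/
def Cov (k : ℕ) (reps : List (List ℕ)) : Prop :=
  ∀ C : GL D.Idx F → Prop, (∀ x ∈ levG h F k, ∀ g, C (x * g * x⁻¹) → C g) → C 1 →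
    (∀ R ∈ reps, C (prd h (fun _ => 1) R)) →
    ∀ t : ℕ → F, prd h t (levP P k) * prd h t (levP P k) = 1 → C (prd h t (levP P k))

variable {F}

theorem ev_noneW (v u : ℕ → F) : ∀ l : List ℕ, Ev h v (noneW l) (prd h u l)
  | [] => rfl
  | a :: l => ⟨u a, prd h u l, trivial, ev_noneW v u l, by simp [prd]⟩

theorem prd_ite (t : ℕ → F) (p : ℕ → Bool) :
    ∀ l, prd h (fun r => bif p r then t r else 0) l = prd h t (l.filter p)
  | [] => rfl
  | a :: l => by
    have ih := prd_ite t p l
    simp only [prd, List.map_cons, List.prod_cons] at ih ⊢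
    rw [ih]
    cases hp : p a
    · simp [List.filter_cons, hp, h.xG_zero]
    · simp [List.filter_cons, hp]

theorem supp_prd (hC : P.ckComm = true) {v : ℕ → F} {S : List ℕ} {w : List AL} {g : GL D.Idx F}
    (hck : ckSupp P S (nf P w) = true) (hg : Ev h v w g) : ∃ u : ℕ → F, g = prd h u S := by
  simp only [ckSupp, Bool.and_eq_true] at hck
  obtain ⟨t, ht, -⟩ := read h (ev_nf h hC hg) ((sorted_of_ck hck.1).1.imp fun hab => Nat.ne_of_lt hab)
  refine ⟨fun r => bif ((nf P w).map Prod.fst).any (Nat.beq r) then t r else 0, ?_⟩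
  rw [prd_ite h, ← eqLs_iff hck.2]
  exact ht

section Stage

variable (hC : P.ckComm = true) {k : ℕ} (hR : ckRad P k = true) (hG : ckGrade P k = true)
include hC hR hG

omit hG in
theorem rad_mul (u u' : ℕ → F) : ∃ v : ℕ → F, prd h u (qs P k) * prd h u' (qs P k) = prd h v (qs P k) := by
  simp only [ckRad, Bool.and_eq_true] at hR
  exact supp_prd h hC (v := u) hR.1 (ev_append h (ev_noneW h u u _) (ev_noneW h u u' _))

omit hG in
theorem rad_conj {x : GL D.Idx F} (hx : x ∈ levG h F k) :
    ∀ u : ℕ → F, ∃ v : ℕ → F, x * prd h u (qs P k) * x⁻¹ = prd h v (qs P k) := by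
  simp only [ckRad, Bool.and_eq_true, List.all_eq_true, Bool.or_eq_true, Bool.not_eq_true'] at hR
  induction hx using Subgroup.closure_induction'' with
  | mem y hy =>
    obtain ⟨r, s, hr, rfl⟩ := hy
    intro u
    have hrn : r < P.nroots := by
      simp only [inL, Bool.and_eq_true, Nat.blt_eq] at hr; exact hr.1
    have hck := (hR.2 r ((Pk.mem_allRoots P).2 hrn)).resolve_left (by simp [hr])
    have h1 : Ev h (fun _ => s) [(r, some [[lam]])] (h.xG r s) :=
      ⟨s, 1, by simp [EvP, evS, evM], rfl, (mul_one _).symm⟩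
    rw [inv_x h]
    exact supp_prd h hC hck (ev_append h (ev_append h h1 (ev_noneW h _ u _)) h1)
  | inv_mem y hy =>
    obtain ⟨r, s, hr, rfl⟩ := hy
    intro u
    have hrn : r < P.nroots := by
      simp only [inL, Bool.and_eq_true, Nat.blt_eq] at hr; exact hr.1
    have hck := (hR.2 r ((Pk.mem_allRoots P).2 hrn)).resolve_left (by simp [hr])
    have h1 : Ev h (fun _ => s) [(r, some [[lam]])] (h.xG r s) :=
      ⟨s, 1, by simp [EvP, evS, evM], rfl, (mul_one _).symm⟩
    rw [inv_inv, inv_x h]
    exact supp_prd h hC hck (ev_append h (ev_append h h1 (ev_noneW h _ u _)) h1)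
  | one => exact fun u => ⟨u, by simp⟩
  | mul a b _ _ iha ihb =>
    intro u
    obtain ⟨v, hv⟩ := ihb u
    obtain ⟨v', hv'⟩ := iha v
    exact ⟨v', by rw [← hv', ← hv]; group⟩

omit hC hR in
theorem grade_x {r : ℕ} (hr : inL P (k + 1) r = true) (hr' : inL P k r = true ∨ P.isPos r = true) (t : F) :
    (inL P k r = true → ∀ i j : D.Idx, grd P k (code P i) ≠ grd P k (code P j) →
      (h.xG r t : Matrix D.Idx D.Idx F) i j = 0) ∧
    (inL P k r = false → ∀ i j : D.Idx, grd P k (code P i) ≤ grd P k (code P j) →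
      (h.xG r t : Matrix D.Idx D.Idx F) i j = if i = j then 1 else 0) := by
  have hrn : r < P.nroots := by
    simp only [inL, Bool.and_eq_true, Nat.blt_eq] at hr; exact hr.1
  have hck := List.all_eq_true.1 hG r ((Pk.mem_allRoots P).2 hrn)
  simp only [Bool.or_eq_true, Bool.not_eq_true', Bool.and_eq_false_iff, Bool.or_eq_false_iff] at hck
  replace hck := hck.resolve_left (by rintro (e | ⟨e1, e2⟩) <;> simp_all)
  simp only [Bool.and_eq_true, Bool.or_eq_true, decide_eq_true_eq, List.all_eq_true, List.mem_range,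
    beq_iff_eq] at hck
  obtain ⟨hrv, hcol⟩ := hck
  have hrv0 : inL P k r = true → P.rv r k = 0 := fun e => by simpa [e] using hrv
  have hrv1 : inL P k r = false → 0 < P.rv r k := fun e => by simpa [e] using hrv
  have key : ∀ i j : D.Idx, ∀ m < 4, ((Ek D P m r i j : ℤ) : F) ≠ 0 →
      grd P k (code P i) = grd P k (code P j) + m * P.rv r k ∧ (m = 0 → i = j) := by
    intro i j m hm hne
    by_contra hcon
    refine hne ?_
    rw [Ek, opM_apply]
    by_cases hz : cf (P.colL m r (code P j)) (code P i) = 0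
    · rw [hz, Int.cast_zero]
    obtain ⟨e, he, hei⟩ : ∃ e ∈ P.colL m r (code P j), e.1 = code P i := by
      by_contra hc
      exact hz (cf_eq_zero fun p hp e => hc ⟨p, hp, e⟩)
    rcases hcol _ (h.code_lt j) m hm e he with h3 | ⟨h3, h4⟩
    · rw [hei] at h3
      obtain ⟨a, ha⟩ := Int.dvd_of_emod_eq_zero h3
      rw [ha, Int.cast_mul, Int.cast_ofNat, CharTwo.two_eq_zero, zero_mul]
    · refine absurd ⟨hei ▸ h3, fun h0 => ?_⟩ hcon
      rw [hei] at h4
      simp only [h0, nbeq, decide_true, Bool.not_true, Bool.false_eq_true, false_or, decide_eq_true_eq] at h4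
      exact h.code_inj h4
  have hX : ∀ i j : D.Idx, (h.xG r t : Matrix D.Idx D.Idx F) i j =
      ∑ m ∈ Finset.range 4, t ^ m * ((Ek D P m r i j : ℤ) : F) := fun i j => by
    rw [h.coe_xG' hrn, X, Matrix.sum_apply]
    simp [cM_apply]
  have hcoef : ∀ i j : D.Idx, ((Ek D P 0 r i j : ℤ) : F) = if i = j then 1 else 0 := by
    intro i j
    rw [Ek, opM_apply, show P.colL 0 r (code P j) = [(code P j, 1)] from rfl]
    by_cases e : i = j
    · subst e; simp [cf]
    · simp [cf, e, nbeq, (h.code_inj.ne (Ne.symm e))]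
  refine ⟨fun hin i j hne => ?_, fun hin i j hle => ?_⟩
  · have h0 : P.rv r k = 0 := hrv0 hin
    rw [hX]
    refine Finset.sum_eq_zero fun m hm => mul_eq_zero_of_right _ ?_
    by_contra hz
    exact hne (by simpa [h0] using (key i j m (Finset.mem_range.1 hm) hz).1)
  · have h0 : 0 < P.rv r k := hrv1 hin
    rw [hX, Finset.sum_eq_single 0]
    · rw [pow_zero, one_mul, hcoef]
    · intro m hm hm0
      refine mul_eq_zero_of_right _ ?_
      by_contra hz
      have := (key i j m (Finset.mem_range.1 hm) hz).1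
      have : (0 : ℤ) < m * P.rv r k := mul_pos (by omega) h0
      omega
    · exact fun hn => absurd (Finset.mem_range.2 (by norm_num)) hn

omit hC hR in
theorem pres_prd {l : List ℕ} (hl : ∀ r ∈ l, inL P (k + 1) r = true ∧ inL P k r = true) (t : ℕ → F) :
    ∀ i j : D.Idx, grd P k (code P i) ≠ grd P k (code P j) → (prd h t l : Matrix D.Idx D.Idx F) i j = 0 := by
  induction l with
  | nil => exact fun i j hne => Matrix.one_apply_ne fun e => hne (e ▸ rfl)
  | cons a l ih =>
    intro i j hne
    rw [show prd h t (a :: l) = h.xG a (t a) * prd h t l by simp [prd], Units.val_mul, Matrix.mul_apply]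
    refine Finset.sum_eq_zero fun m _ => ?_
    by_cases hm : grd P k (code P i) = grd P k (code P m)
    · rw [ih (fun r hr => hl r (List.mem_cons_of_mem _ hr)) m j (hm ▸ hne), mul_zero]
    · rw [(grade_x h hG (hl a List.mem_cons_self).1 (Or.inl (hl a List.mem_cons_self).2) (t a)).1
        (hl a List.mem_cons_self).2 i m hm, zero_mul]

omit hC hR in
theorem uni_prd {l : List ℕ} (hl : ∀ r ∈ l, inL P (k + 1) r = true ∧ inL P k r = false ∧ P.isPos r = true)
    (t : ℕ → F) : ∀ i j : D.Idx, grd P k (code P i) ≤ grd P k (code P j) →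
      (prd h t l : Matrix D.Idx D.Idx F) i j = if i = j then 1 else 0 := by
  induction l with
  | nil => exact fun i j _ => by simp [prd, Matrix.one_apply]
  | cons a l ih =>
    intro i j hle
    obtain ⟨ha1, ha2, ha3⟩ := hl a List.mem_cons_self
    have hx := (grade_x h hG ha1 (Or.inr ha3) (t a)).2 ha2
    rw [show prd h t (a :: l) = h.xG a (t a) * prd h t l by simp [prd], Units.val_mul, Matrix.mul_apply,
      Finset.sum_eq_single i]
    · rw [hx i i le_rfl, if_pos rfl, one_mul, ih (fun r hr => hl r (List.mem_cons_of_mem _ hr)) i j hle]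
    · intro m _ hm
      by_cases hmj : grd P k (code P m) ≤ grd P k (code P j)
      · rw [ih (fun r hr => hl r (List.mem_cons_of_mem _ hr)) m j hmj]
        by_cases e : m = j
        · rw [hx i m (e ▸ hle), if_neg (Ne.symm hm), zero_mul]
        · rw [if_neg e, mul_zero]
      · rw [hx i m (by omega), if_neg (Ne.symm hm), zero_mul]
    · exact fun hn => absurd (Finset.mem_univ _) hn

omit hC hR hG in
theorem mem_qs {r : ℕ} (hr : r ∈ qs P k) : inL P (k + 1) r = true ∧ inL P k r = false ∧ P.isPos r = true := by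
  simp only [qs, List.mem_filter, Bool.and_eq_true, Bool.not_eq_true'] at hr
  exact ⟨hr.2.1, hr.2.2, mem_posL.1 hr.1⟩

omit hC hR hG in
theorem inv_prd (t : ℕ → F) : ∀ l : List ℕ, (prd h t l)⁻¹ = prd h t l.reverse
  | [] => by simp [prd]
  | a :: l => by
    rw [show prd h t (a :: l) = h.xG a (t a) * prd h t l by simp [prd], mul_inv_rev, inv_prd t l, inv_x h]
    simp [prd]

theorem sq_levi {t u : ℕ → F} {l : List ℕ} (hl : ∀ r ∈ l, inL P (k + 1) r = true ∧ inL P k r = true)
    (hsq : prd h t l * prd h u (qs P k) * (prd h t l * prd h u (qs P k)) = 1) : prd h t l * prd h t l = 1 := by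
  have hy : (prd h t l)⁻¹ ∈ levG h F k := inv_mem (Subgroup.list_prod_mem _ fun g hg => by
    obtain ⟨r, hr, rfl⟩ := List.mem_map.1 hg
    exact h.xG_mem_genR (hl r hr).2 _)
  obtain ⟨v, hv⟩ := rad_conj h hC hR hy u
  obtain ⟨w, hw⟩ := rad_mul h hC hR v u
  rw [inv_inv] at hv
  have e : prd h t l * prd h t l * prd h w (qs P k) = 1 := by
    rw [← hsq, ← hw, ← hv]; group
  have e2 : prd h t l * prd h t l = prd h w (qs P k).reverse := by
    rw [← inv_prd h]; exact eq_inv_of_mul_eq_one_left e
  apply Units.ext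
  ext i j
  rw [Units.val_one, Matrix.one_apply]
  have huni : ∀ a b : D.Idx, grd P k (code P a) ≤ grd P k (code P b) →
      ((prd h t l * prd h t l : GL D.Idx F) : Matrix D.Idx D.Idx F) a b = if a = b then 1 else 0 := by
    rw [e2]; exact uni_prd h hG (fun r hr => mem_qs (List.mem_reverse.1 hr)) w
  by_cases hij : grd P k (code P i) = grd P k (code P j)
  · exact huni i j hij.le
  · rw [if_neg (fun e : i = j => hij (by rw [e])),
      Units.val_mul, Matrix.mul_apply]
    refine Finset.sum_eq_zero fun m _ => ?_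
    by_cases hm : grd P k (code P i) = grd P k (code P m)
    · rw [pres_prd h hG hl t m j (hm ▸ hij), mul_zero]
    · rw [pres_prd h hG hl t i m hm, zero_mul]

omit hG in
theorem decompose (t : ℕ → F) : ∀ l : List ℕ,
    (∀ r ∈ l, inL P (k + 1) r = true ∧ P.isPos r = true) →
    ∃ u : ℕ → F, prd h t l = prd h t (l.filter (inL P k)) * prd h u (qs P k)
  | [], _ => by
    refine ⟨fun _ => 0, ?_⟩
    rw [List.filter_nil, show prd h (fun _ => (0 : F)) (qs P k) = 1 from List.prod_eq_one fun x hx => by
      obtain ⟨r, -, rfl⟩ := List.mem_map.1 hx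
      exact h.xG_zero r]
    simp [prd]
  | a :: l, hl => by
    obtain ⟨u, hu⟩ := decompose t l fun r hr => hl r (List.mem_cons_of_mem _ hr)
    rw [show prd h t (a :: l) = h.xG a (t a) * prd h t l by simp [prd], hu]
    cases ha : inL P k a
    · rw [List.filter_cons_of_neg (by simp [ha])]
      have hy : (prd h t (l.filter (inL P k)))⁻¹ ∈ levG h F k := inv_mem (Subgroup.list_prod_mem _ fun g hg => by
        obtain ⟨r, hr, rfl⟩ := List.mem_map.1 hg
        exact h.xG_mem_genR (List.mem_filter.1 hr).2 _)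
      obtain ⟨hq, hp⟩ := hl a List.mem_cons_self
      have haq : a ∈ qs P k := List.mem_filter.2 ⟨mem_posL.2 hp, by simp [hq, ha]⟩
      have hone : h.xG a (t a) = prd h (fun r => bif Nat.beq r a then t a else 0) (qs P k) := by
        rw [prd_ite h (fun _ => t a) (fun r => Nat.beq r a),
          show (qs P k).filter (fun r => Nat.beq r a) = [a] from ?_]
        · simp [prd]
        · have hn : (qs P k).Nodup := ((posL_sorted (P := P)).imp fun hab => Nat.ne_of_lt hab).filter _
          rw [show (fun r => Nat.beq r a) = (fun r => r == a) from funext fun r => by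
            simp [nbeq, Bool.beq_eq_decide_eq], List.filter_beq, List.count_eq_one_of_mem hn haq]
          rfl
      obtain ⟨v, hv⟩ := rad_conj h hC hR hy (fun r => bif Nat.beq r a then t a else 0)
      obtain ⟨w, hw⟩ := rad_mul h hC hR v u
      refine ⟨w, ?_⟩
      rw [← hw, ← hv, inv_inv, ← hone]
      group
    · rw [List.filter_cons_of_pos ha]
      exact ⟨u, by simp [prd, mul_assoc]⟩

/-- One stage: from the Levi subgroup to the next. -/
theorem cov_stage [Finite F] {T : List (List Node)} {n : ℕ} {cert : List Leaf} {reps reps' : List (List ℕ)}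
    {starts : List (List ℕ × ℕ)}
    (hlev : eqLs (levP P k) ((levP P (k + 1)).filter (inL P k)) = true)
    (hsub : P.allRoots.all (fun r => !(inL P k r) || inL P (k + 1) r) = true)
    (hcov : Cov h F k reps)
    (hst : starts.all (fun s => ckStart P k T n s.1 s.2) = true)
    (hreps : (([] : List ℕ) :: reps).all (fun R => starts.any fun s => eqLs s.1 R) = true)
    (hck : ∀ i < n, ckNode P (cert.map Prod.fst) T i = true)
    (huse : ∀ i < n, ckUse P (inL P (k + 1)) T i = true)
    (hleaves : cert.all (fun c => ckLeaf P reps' c && ckLeafUse P (inL P (k + 1)) c) = true) :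
    Cov h F (k + 1) reps' := by
  intro C hconj hone hrep t hsq
  have hle : levG h F k ≤ levG h F (k + 1) := h.genR_le fun r hr s => h.xG_mem_genR (by
    have hrn : r < P.nroots := by
      simp only [inL, Bool.and_eq_true, Nat.blt_eq] at hr; exact hr.1
    simpa [hr] using List.all_eq_true.1 hsub r ((Pk.mem_allRoots P).2 hrn)) s
  have hgood := soundK h hC (C := C) (okR := inL P (k + 1)) hconj hone (leaves := cert.map Prod.fst)
    (fun i hi u hu _ => by
      rw [List.length_map] at hi
      have hl : (cert.map Prod.fst).getD i [] = (cert[i]).1 := by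
        simp [List.getD_eq_getElem?_getD, hi]
      rw [hl] at hu ⊢
      have hc := List.all_eq_true.1 hleaves _ (List.getElem_mem hi)
      simp only [ckLeaf, ckLeafUse, Bool.and_eq_true, List.all_eq_true, Nat.blt_eq] at hc
      obtain ⟨⟨⟨h1, h2⟩, h3⟩, h4, h5⟩ := hc
      obtain ⟨z, hz, e⟩ := normalizeK h (okR := inL P (k + 1)) h1 h4 u hu
      obtain ⟨w, hw, e'⟩ := pathK h hC (v := fun _ => (1 : F)) _ _ _ h5 h3 (ev_oneW h _)
      refine hconj z hz _ (e ▸ hconj w hw _ (e' ▸ hrep _ ?_))
      rw [List.getD_eq_getElem?_getD, List.getElem?_eq_getElem h2]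
      exact List.getElem_mem h2) T n hck huse
  let C₁ : GL D.Idx F → Prop := fun y => ∀ u : ℕ → F,
    y * prd h u (qs P k) * (y * prd h u (qs P k)) = 1 → C (y * prd h u (qs P k))
  have hconj₁ : ∀ x ∈ levG h F k, ∀ g, C₁ (x * g * x⁻¹) → C₁ g := by
    intro x hx g hg u hu
    obtain ⟨v, hv⟩ := rad_conj h hC hR hx u
    refine hconj x (hle hx) _ ?_
    rw [show x * (g * prd h u (qs P k)) * x⁻¹ = (x * g * x⁻¹) * (x * prd h u (qs P k) * x⁻¹) by group, hv]
    refine hg v ?_
    rw [← hv, show x * g * x⁻¹ * (x * prd h u (qs P k) * x⁻¹) * (x * g * x⁻¹ * (x * prd h u (qs P k) * x⁻¹)) =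
      x * (g * prd h u (qs P k) * (g * prd h u (qs P k))) * x⁻¹ by group, hu, mul_one, mul_inv_cancel]
  have hstart : ∀ R ∈ ([] : List ℕ) :: reps, C₁ (prd h (fun _ => 1) R) := by
    intro R hR' u hu
    have h1 := List.all_eq_true.1 hreps R hR'
    rw [List.any_eq_true] at h1
    obtain ⟨⟨R₀, root⟩, hs, he⟩ := h1
    obtain rfl : R₀ = R := eqLs_iff he
    have h2 := List.all_eq_true.1 hst _ hs
    simp only [ckStart, Bool.and_eq_true, Nat.blt_eq] at h2
    obtain ⟨⟨⟨hroot, hL⟩, hsorted⟩, hnz⟩ := h2
    have hev : Ev h (fun _ => (1 : F)) (nf P (oneW R₀ ++ noneW (qs P k)))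
        (prd h (fun _ => 1) R₀ * prd h u (qs P k)) :=
      ev_nf h hC (ev_append h (ev_oneW h _) (ev_noneW h _ u _))
    obtain ⟨v, hv, hve⟩ := read h hev ((sorted_of_ck hsorted).1.imp fun hab => Nat.ne_of_lt hab)
    rw [← eqLs_iff hL] at hv
    rw [hv] at hu ⊢
    exact hgood root hroot v (fun r hr => ckNz_ne hnz (by simp) hve hr) hu
  have hC1 : C₁ 1 := by simpa [prd] using hstart [] List.mem_cons_self
  obtain ⟨u, hu⟩ := decompose h hC hR t (levP P (k + 1)) fun r hr =>
    ⟨(List.mem_filter.1 hr).2, mem_posL.1 (List.mem_filter.1 hr).1⟩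
  rw [← eqLs_iff hlev] at hu
  rw [hu] at hsq ⊢
  refine hcov C₁ hconj₁ hC1 (fun R hR' => hstart R (List.mem_cons_of_mem _ hR')) t ?_ u hsq
  refine sq_levi h hC hR hG (fun r hr => ?_) hsq
  have h1 := (List.mem_filter.1 (eqLs_iff hlev ▸ hr)).1
  exact ⟨(List.mem_filter.1 h1).2, (List.mem_filter.1 hr).2⟩

end Stage

/-- The first stage: a certificate for the whole unipotent group of the Levi subgroup. -/
theorem cov_tree [Finite F] (hC : P.ckComm = true) {k : ℕ} {T : List (List Node)} {n root : ℕ} {cert : List Leaf}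
    {reps : List (List ℕ)} (hroot : root < n)
    (hL : eqLs (bits P (getN T root).1) (levP P k) = true)
    (hN : Nat.beq (bits P (getN T root).2.1).length 0 = true)
    (hck : ∀ i < n, ckNode P (cert.map Prod.fst) T i = true) (huse : ∀ i < n, ckUse P (inL P k) T i = true)
    (hleaves : cert.all (fun c => ckLeaf P reps c && ckLeafUse P (inL P k) c) = true) :
    Cov h F k reps := by
  intro C hconj hone hrep t hsq
  have hgood := soundK h hC (C := C) (okR := inL P k) hconj hone (leaves := cert.map Prod.fst)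
    (fun i hi u hu _ => by
      rw [List.length_map] at hi
      have hl : (cert.map Prod.fst).getD i [] = (cert[i]).1 := by
        simp [List.getD_eq_getElem?_getD, hi]
      rw [hl] at hu ⊢
      have hc := List.all_eq_true.1 hleaves _ (List.getElem_mem hi)
      simp only [ckLeaf, ckLeafUse, Bool.and_eq_true, List.all_eq_true, Nat.blt_eq] at hc
      obtain ⟨⟨⟨h1, h2⟩, h3⟩, h4, h5⟩ := hc
      obtain ⟨z, hz, e⟩ := normalizeK h (okR := inL P k) h1 h4 u hu
      obtain ⟨w, hw, e'⟩ := pathK h hC (v := fun _ => (1 : F)) _ _ _ h5 h3 (ev_oneW h _)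
      refine hconj z hz _ (e ▸ hconj w hw _ (e' ▸ hrep _ ?_))
      rw [List.getD_eq_getElem?_getD, List.getElem?_eq_getElem h2]
      exact List.getElem_mem h2) T n hck huse root hroot t
    (fun r hr => by
      simp only [nbeq, decide_eq_true_eq, List.length_eq_zero_iff] at hN
      rw [hN] at hr
      exact absurd hr List.not_mem_nil)
  rw [eqLs_iff hL] at hgood
  exact hgood hsq

/-- Every involution is conjugate to a representative of the last stage. -/
theorem exists_class_cov [Fintype F] (hC : P.ckComm = true) {k : ℕ} {reps : List (List ℕ)}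
    (hk : eqLs (levP P k) (posL P) = true) (hcov : Cov h F k reps) {g : GL D.Idx F} (hg : g ∈ D.group F)
    (ho : orderOf g = 2) : ∃ R ∈ reps, ∃ x ∈ D.group F, x * g * x⁻¹ = prd h (fun _ => 1) R := by
  haveI : Fact (Nat.Prime 2) := ⟨Nat.prime_two⟩
  obtain ⟨S, hS⟩ := h.pos_sylow (F := F) 2 hC
  set g' : D.group F := ⟨g, hg⟩
  have hp : IsPGroup 2 (Subgroup.zpowers g') := by
    refine IsPGroup.of_card (n := 1) ?_
    rw [Nat.card_zpowers, pow_one, ← ho, ← Subgroup.orderOf_coe]
  obtain ⟨U, hU⟩ := hp.exists_le_sylow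
  obtain ⟨x, hx⟩ := MulAction.exists_smul_eq (D.group F) U S
  have hxU : ((x * g' * x⁻¹ : D.group F) : GL D.Idx F) ∈ D.posUnipotent F := by
    have h1 : x * g' * x⁻¹ ∈ ((x • U : Sylow 2 (D.group F)) : Subgroup (D.group F)) := by
      rw [Sylow.coe_subgroup_smul, Subgroup.mem_pointwise_smul_iff_inv_smul_mem]
      simpa [mul_assoc] using hU (Subgroup.mem_zpowers g')
    rw [hx, hS, Subgroup.mem_subgroupOf] at h1
    exact h1
  obtain ⟨t, ht⟩ := h.pos_normal_form hC hxU
  push_cast at ht
  let C : GL D.Idx F → Prop := fun y => y = 1 ∨ ∃ R ∈ reps, ∃ z ∈ D.group F, z * y * z⁻¹ = prd h (fun _ => 1) R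
  have hconj : ∀ z ∈ levG h F k, ∀ y, C (z * y * z⁻¹) → C y := by
    intro z hz y hy
    rcases hy with hy | ⟨R, hR, w, hw, e⟩
    · exact Or.inl (by simpa using hy)
    · exact Or.inr ⟨R, hR, w * z, mul_mem hw ((h.genR_le fun r _ s => h.mem_group_of_xG r s) hz),
        by rw [← e]; group⟩
  have hgood := hcov C hconj (Or.inl rfl) (fun R hR => Or.inr ⟨R, hR, 1, one_mem _, by simp⟩) t
  rw [eqLs_iff hk, prd, ← ht] at hgood
  have hsq : (x : GL D.Idx F) * g * (x : GL D.Idx F)⁻¹ * ((x : GL D.Idx F) * g * (x : GL D.Idx F)⁻¹) = 1 := by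
    rw [show (x : GL D.Idx F) * g * (x : GL D.Idx F)⁻¹ * ((x : GL D.Idx F) * g * (x : GL D.Idx F)⁻¹) =
      (x : GL D.Idx F) * (g * g) * (x : GL D.Idx F)⁻¹ by group, ← pow_two, ← ho, pow_orderOf_eq_one]
    group
  change (x : GL D.Idx F) * g * (x : GL D.Idx F)⁻¹ * ((x : GL D.Idx F) * g * (x : GL D.Idx F)⁻¹) = 1 →
    C ((x : GL D.Idx F) * g * (x : GL D.Idx F)⁻¹) at hgood
  rcases hgood hsq with h1 | ⟨R, hR, z, hz, e⟩
  · exfalso
    have : g = 1 := by simpa using h1
    rw [this, orderOf_one] at ho
    omega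
  · exact ⟨R, hR, z * (x : GL D.Idx F), mul_mem hz x.2, by rw [← e]; group⟩

end Cfsg.Agent.Chev.InvolCert
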